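import Mathlib.RingTheory.SimpleModule.IsAlgClosed
import Mathlib.RingTheory.Idempotents
import Mathlib.RingTheory.Artinian.Ring
import Mathlib.RingTheory.Jacobson.Semiprimary
import Mathlib.LinearAlgebra.Matrix.Charpoly.Coeff
import Mathlib.LinearAlgebra.Projection
import Mathlib.LinearAlgebra.Matrix.Basis
import Mathlib.LinearAlgebra.Matrix.Permutation

/-!
# Idempotents of a finite dimensional algebra over an algebraically closed field
-/

set_option autoImplicit false
set_option maxHeartbeats 1000000

namespace CfsgLib.DegreeSq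

open scoped Classical

universe u v w

section Conj

variable {A : Type u} [Ring A] {B : Type v} [Ring B] (π : A →+* B)

theorem isUnit_of_nil_map_eq_one (hπ : ∀ x ∈ RingHom.ker π, IsNilpotent x) {a : A}
    (h : π a = 1) : IsUnit a := by
  have hn : IsNilpotent (a - 1) := hπ _ (by rw [RingHom.mem_ker, map_sub, map_one, h, sub_self])
  simpa using hn.isUnit_add_one

theorem eq_zero_of_idem_map_eq_zero (hπ : ∀ x ∈ RingHom.ker π, IsNilpotent x) {a : A}
    (ha : IsIdempotentElem a) (h : π a = 0) : a = 0 :=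
  ha.eq_zero_of_isNilpotent (hπ _ h)

/-- Idempotents with equal images modulo a nil ideal are conjugate. -/
theorem exists_conj_of_map_eq (hπ : ∀ x ∈ RingHom.ker π, IsNilpotent x) {e e' : A}
    (he : IsIdempotentElem e) (he' : IsIdempotentElem e') (h : π e = π e') :
    ∃ u : Aˣ, e * ↑u = ↑u * e' := by
  have hε : IsIdempotentElem (π e') := he'.map _
  obtain ⟨u, hu⟩ := isUnit_of_nil_map_eq_one π hπ (a := e * e' + (1 - e) * (1 - e')) (by
    rw [map_add, map_mul, map_mul, map_sub, map_sub, map_one, h, hε.eq, hε.one_sub.eq]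
    abel)
  refine ⟨u, ?_⟩
  rw [hu, mul_add, add_mul, ← mul_assoc, he.eq, ← mul_assoc, he.mul_one_sub_self, zero_mul,
    add_zero, mul_assoc, he'.eq, mul_assoc (1 - e), he'.one_sub_mul_self, mul_zero, add_zero]

theorem exists_unit_map (hπ : ∀ x ∈ RingHom.ker π, IsNilpotent x) (hs : Function.Surjective π)
    (u : Bˣ) : ∃ U : Aˣ, π U = u := by
  obtain ⟨a, ha⟩ := hs u
  obtain ⟨b, hb⟩ := hs (u⁻¹).val
  have hab : π (a * b) = 1 := by rw [map_mul, ha, hb]; exact u.mul_inv
  have hba : π (b * a) = 1 := by rw [map_mul, ha, hb]; exact u.inv_mul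
  obtain ⟨v, hv⟩ := isUnit_of_nil_map_eq_one π hπ hab
  obtain ⟨w, hw⟩ := isUnit_of_nil_map_eq_one π hπ hba
  have hl : a * (b * (v⁻¹).val) = 1 := by rw [← mul_assoc, ← hv]; exact v.mul_inv
  have hr : ((w⁻¹).val * b) * a = 1 := by rw [mul_assoc, ← hw]; exact w.inv_mul
  have he : (w⁻¹).val * b = b * (v⁻¹).val := left_inv_eq_right_inv hr hl
  have hr' : b * (v⁻¹).val * a = 1 := by rw [← he]; exact hr
  exact ⟨⟨a, b * (v⁻¹).val, hl, hr'⟩, ha⟩

/-- A function on idempotents that is invariant under conjugation and additive. -/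
structure IsIdemFun {V : Type w} [AddCommMonoid V] (F : A → V) : Prop where
  conj : ∀ (x y : A), IsIdempotentElem x → ∀ u : Aˣ, x * ↑u = ↑u * y → F x = F y
  add : ∀ x y : A, IsIdempotentElem x → IsIdempotentElem y → x * y = 0 → y * x = 0 →
    F (x + y) = F x + F y

theorem IsIdemFun.map_zero' {V : Type w} [AddCancelCommMonoid V] {F : A → V} (h : IsIdemFun F) :
    F 0 = 0 := by
  have := h.add 0 0 IsIdempotentElem.zero IsIdempotentElem.zero (mul_zero _) (mul_zero _)
  rw [add_zero] at this
  exact left_eq_add.mp this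

theorem IsIdemFun.map_sum {V : Type w} [AddCancelCommMonoid V] {F : A → V} (h : IsIdemFun F)
    {I : Type*} {e : I → A} (he : OrthogonalIdempotents e) (s : Finset I) :
    F (∑ i ∈ s, e i) = ∑ i ∈ s, F (e i) := by
  induction s using Finset.induction_on with
  | empty => simpa using h.map_zero'
  | @insert a t ha ih =>
    rw [Finset.sum_insert ha, Finset.sum_insert ha,
      h.add _ _ (he.idem a) he.isIdempotentElem_sum, ih]
    · rw [Finset.mul_sum]
      exact Finset.sum_eq_zero fun i hi => he.ortho (fun hh => ha (hh ▸ hi))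
    · rw [Finset.sum_mul]
      exact Finset.sum_eq_zero fun i hi => he.ortho (fun hh => ha (hh ▸ hi))

end Conj

section Matrix

variable {k : Type u} [Field k] {d : ℕ}

/-- An idempotent matrix is conjugate to a diagonal zero-one matrix. -/
theorem exists_conj_diagonal (P : Matrix (Fin d) (Fin d) k) (hP : IsIdempotentElem P) :
    ∃ (U : (Matrix (Fin d) (Fin d) k)ˣ) (T : Finset (Fin d)),
      P * U.val = U.val * ∑ j ∈ T, Matrix.single j j (1 : k) := by
  let f := Matrix.toLin' P
  have hf : IsIdempotentElem f := by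
    show f * f = f
    rw [Module.End.mul_eq_comp, ← Matrix.toLin'_mul, hP.eq]
  have hproj := LinearMap.IsIdempotentElem.isProj_range f hf
  have hc : IsCompl (LinearMap.range f) (LinearMap.ker f) := hproj.isCompl
  let b₀ := ((Module.finBasis k (LinearMap.range f)).prod (Module.finBasis k (LinearMap.ker f))).map
    (Submodule.prodEquivOfIsCompl _ _ hc)
  let σ := b₀.indexEquiv (Pi.basisFun k (Fin d))
  let b := b₀.reindex σ
  let U : Matrix (Fin d) (Fin d) k := (Pi.basisFun k (Fin d)).toMatrix b
  have hU1 : U * b.toMatrix (Pi.basisFun k (Fin d)) = 1 :=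
    Module.Basis.toMatrix_mul_toMatrix_flip _ _
  have hU2 : b.toMatrix (Pi.basisFun k (Fin d)) * U = 1 :=
    Module.Basis.toMatrix_mul_toMatrix_flip _ _
  refine ⟨⟨U, _, hU1, hU2⟩, Finset.univ.filter fun j => (σ.symm j).isLeft, ?_⟩
  show P * U = U * (∑ j ∈ Finset.univ.filter (fun j => (σ.symm j).isLeft), Matrix.single j j (1 : k))
  ext i j
  rw [Finset.mul_sum, Matrix.sum_apply]
  have hUij : ∀ i j, U i j = b j i := fun i j => by
    simp [U, Module.Basis.toMatrix_apply]
  have hl : (P * U) i j = f (b j) i := by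
    simp [Matrix.mul_apply, f, Matrix.toLin'_apply, Matrix.mulVec, dotProduct, hUij]
  have hfb : f (b j) = if (σ.symm j).isLeft then b j else 0 := by
    simp only [b, Module.Basis.reindex_apply]
    rcases σ.symm j with x | x
    · simp only [Sum.isLeft_inl, if_true]
      refine hproj.map_id _ ?_
      simp [b₀]
    · simp only [Sum.isLeft_inr, Bool.false_eq_true, if_false]
      refine LinearMap.mem_ker.1 ?_
      simp [b₀]
  rw [hl, hfb]
  by_cases hj : (σ.symm j).isLeft = true
  · rw [if_pos hj, Finset.sum_eq_single j]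
    · simp [Matrix.mul_apply, Matrix.single_apply, hUij]
    · intro x _ hx
      simp [Matrix.mul_apply, Matrix.single_apply, hx]
    · intro hne
      exact (hne (by simp [hj])).elim
  · rw [if_neg hj, Pi.zero_apply]
    refine (Finset.sum_eq_zero fun x hx => ?_).symm
    have hxj : x ≠ j := fun h => hj (h ▸ (Finset.mem_filter.1 hx).2)
    simp [Matrix.mul_apply, Matrix.single_apply, hxj]

end Matrix

/-- The data: primitive idempotents and traces of the simple modules. -/
structure IdemData (k : Type u) (A : Type v) [Field k] [Ring A] [Algebra k A] where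
  n : ℕ
  deg : Fin n → ℕ
  deg_pos : ∀ i, 0 < deg i
  eps : Fin n → A
  tr : Fin n → A →ₗ[k] k
  eps_idem : ∀ i, IsIdempotentElem (eps i)
  tr_eps : ∀ i j, tr i (eps j) = if i = j then 1 else 0
  tr_comm : ∀ i a b, tr i (a * b) = tr i (b * a)
  tr_nil : ∀ i a, IsNilpotent a → tr i a = 0
  decomp : ∀ x : A, IsIdempotentElem x → ∃ r : Fin n → ℕ,
    ∀ F : A → ℤ, IsIdemFun F → F x = ∑ i, (r i : ℤ) * F (eps i)
  decomp_one : ∀ F : A → ℤ, IsIdemFun F → F 1 = ∑ i, (deg i : ℤ) * F (eps i)
  decomp_tr : ∀ x : A, IsIdempotentElem x → ∃ r : Fin n → ℕ,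
    (∀ F : A → ℤ, IsIdemFun F → F x = ∑ i, (r i : ℤ) * F (eps i)) ∧ ∀ i, tr i x = (r i : k)
  central : ∀ e : A, IsIdempotentElem e → (∀ a, a * e = e * a) → ∀ i,
    (e * eps i = eps i ∧ ∀ a, tr i (e * a) = tr i a) ∨
      (e * eps i = 0 ∧ ∀ a, tr i (e * a) = 0)

/-- Every finite dimensional algebra over an algebraically closed field has such data. -/
theorem exists_idemData (k : Type u) (A : Type v) [Field k] [IsAlgClosed k] [Ring A] [Algebra k A]
    [FiniteDimensional k A] : Nonempty (IdemData k A) := by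
  haveI : IsArtinianRing A := IsArtinianRing.of_finite k A
  haveI : IsSemisimpleRing (A ⧸ Ring.jacobson A) := IsSemiprimaryRing.isSemisimpleRing
  haveI : FiniteDimensional k (A ⧸ Ring.jacobson A) :=
    Module.Finite.of_surjective (Ideal.Quotient.mkₐ k (Ring.jacobson A)).toLinearMap
      Ideal.Quotient.mk_surjective
  obtain ⟨n, d, hd, ⟨φ⟩⟩ :=
    IsSemisimpleRing.exists_algEquiv_pi_matrix_of_isAlgClosed k (A ⧸ Ring.jacobson A)
  haveI := hd
  let π : A →ₐ[k] Π i, Matrix (Fin (d i)) (Fin (d i)) k :=
    φ.toAlgHom.comp (Ideal.Quotient.mkₐ k (Ring.jacobson A))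
  have hs : Function.Surjective π.toRingHom :=
    φ.surjective.comp Ideal.Quotient.mk_surjective
  have hπ : ∀ x ∈ RingHom.ker π.toRingHom, IsNilpotent x := by
    intro x hx
    have hx' : x ∈ Ring.jacobson A := by
      rw [RingHom.mem_ker] at hx
      refine Ideal.Quotient.eq_zero_iff_mem.1 (φ.injective ?_)
      rw [map_zero]
      exact hx
    obtain ⟨m, hm⟩ : IsNilpotent (Ring.jacobson A) := IsSemiprimaryRing.isNilpotent
    refine ⟨m + 1, ?_⟩
    have hmem : ∀ j : ℕ, x ^ j ∈ (Ring.jacobson A) ^ j := by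
      intro j
      induction j with
      | zero => rw [Submodule.pow_zero, Ideal.one_eq_top]; trivial
      | succ j ih => rw [pow_succ, Submodule.pow_succ]; exact Submodule.smul_mem_smul ih hx'
    have := hmem m
    rw [hm] at this
    rw [pow_succ, Submodule.mem_bot A |>.1 this, zero_mul]
  let I := Σ i, Fin (d i)
  let D : I → Π i, Matrix (Fin (d i)) (Fin (d i)) k := fun q =>
    Pi.single q.1 (Matrix.single q.2 q.2 1)
  have hD : CompleteOrthogonalIdempotents D := by
    refine ⟨⟨fun q => ?_, fun q q' hqq => ?_⟩, ?_⟩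
    · show D q * D q = D q
      simp [D, ← Pi.single_mul]
    · show D q * D q' = 0
      obtain ⟨i, j⟩ := q
      obtain ⟨i', j'⟩ := q'
      by_cases hi : i = i'
      · subst hi
        have hj : j ≠ j' := fun h => hqq (by subst h; rfl)
        simp [D, ← Pi.single_mul, hj]
      · funext l
        by_cases hl : l = i
        · subst hl; simp [D, hi]
        · simp [D, hl]
    · funext l
      rw [Fintype.sum_sigma, Finset.sum_apply, Finset.sum_eq_single l]
      · rw [Finset.sum_apply]
        simp only [D, Pi.single_eq_same]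
        ext a b
        simp only [Matrix.sum_apply, Matrix.single_apply, Pi.one_apply, Matrix.one_apply]
        by_cases hab : a = b
        · subst hab; simp
        · rw [if_neg hab]
          exact Finset.sum_eq_zero fun c _ => if_neg fun (h : c = a ∧ c = b) => hab (h.1.symm.trans h.2)
      · intro i _ hi
        simp [D, Finset.sum_apply, Ne.symm hi]
      · simp
  obtain ⟨ε, hε, hεD⟩ := CompleteOrthogonalIdempotents.lift_of_isNilpotent_ker π.toRingHom hπ hD
    (fun q => hs (D q))
  have hεπ : ∀ q, π (ε q) = D q := fun q => congrFun hεD q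
  let z : ∀ i, Fin (d i) := fun i => ⟨0, Nat.pos_of_ne_zero (NeZero.ne _)⟩
  have hsame : ∀ (F : A → ℤ), IsIdemFun F → ∀ q : I, F (ε q) = F (ε ⟨q.1, z q.1⟩) := by
    intro F hF q
    obtain ⟨i, j⟩ := q
    let s := Equiv.swap j (z i)
    let Sm : Matrix (Fin (d i)) (Fin (d i)) k := s.permMatrix k
    have hSS : Sm * Sm = 1 := by
      simp only [Sm, ← Matrix.permMatrix_mul, s, Equiv.swap_mul_self, Matrix.permMatrix_one]
    let g : Π l, Matrix (Fin (d l)) (Fin (d l)) k := Function.update 1 i Sm
    let u : (Π l, Matrix (Fin (d l)) (Fin (d l)) k)ˣ :=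
      ⟨g, g, by
        funext l
        by_cases hl : l = i
        · subst hl; simp [g, hSS]
        · simp [g, hl], by
        funext l
        by_cases hl : l = i
        · subst hl; simp [g, hSS]
        · simp [g, hl]⟩
    obtain ⟨U, hU⟩ := exists_unit_map π.toRingHom hπ hs u
    have hy : IsIdempotentElem ((U⁻¹).val * ε ⟨i, j⟩ * U.val) := by
      show _ * _ = _
      rw [show (U⁻¹).val * ε ⟨i, j⟩ * U.val * ((U⁻¹).val * ε ⟨i, j⟩ * U.val) =
        (U⁻¹).val * (ε ⟨i, j⟩ * (U.val * (U⁻¹).val) * ε ⟨i, j⟩) * U.val by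
          simp only [mul_assoc], Units.mul_inv, mul_one, (hε.idem _).eq]
    have h1 : F (ε ⟨i, j⟩) = F ((U⁻¹).val * ε ⟨i, j⟩ * U.val) :=
      hF.conj _ _ (hε.idem _) U (by rw [← mul_assoc, ← mul_assoc, Units.mul_inv, one_mul])
    have h2 : π ((U⁻¹).val * ε ⟨i, j⟩ * U.val) = π (ε ⟨i, z i⟩) := by
      have hπU : π U.val = u.val := hU
      have hπU' : π (U⁻¹).val = (u⁻¹).val := by
        have e1 : u.val * π (U⁻¹).val = 1 := by rw [← hπU, ← map_mul, Units.mul_inv, map_one]
        exact (Units.eq_inv_of_mul_eq_one_left e1)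
      rw [map_mul, map_mul, hπU, hπU', hεπ, hεπ]
      funext l
      by_cases hl : l = i
      · subst hl
        show (g l * D ⟨l, j⟩ l) * g l = D ⟨l, z l⟩ l
        simp only [g, Function.update_self, D, Pi.single_eq_same]
        ext a b
        have hsw : ∀ c, (j = s c) = (z l = c) := fun c => by
          refine propext ⟨fun h => ?_, fun h => by rw [← h]; exact (Equiv.swap_apply_right j (z l)).symm⟩
          have h' := congrArg s h
          rwa [show s (s c) = c from Equiv.swap_apply_self j (z l) c,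
            show s j = z l from Equiv.swap_apply_left j (z l)] at h'
        simp only [Sm, Equiv.Perm.permMatrix, PEquiv.toMatrix_toPEquiv_mul,
          PEquiv.mul_toMatrix_toPEquiv, Matrix.submatrix_apply, id_eq, Matrix.single_apply]
        rw [show s.symm b = s b by simp [s]]
        exact if_congr (Iff.of_eq (congrArg₂ And (hsw a) (hsw b))) rfl rfl
      · show (g l * D ⟨i, j⟩ l) * g l = D ⟨i, z i⟩ l
        simp [g, D, hl]
    obtain ⟨V, hV⟩ := exists_conj_of_map_eq π.toRingHom hπ hy (hε.idem _) h2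
    exact h1.trans (hF.conj _ _ hy V hV)
  have hdec : ∀ x : A, IsIdempotentElem x → ∃ r : Fin n → ℕ,
      (∀ F : A → ℤ, IsIdemFun F → F x = ∑ i, (r i : ℤ) * F (ε ⟨i, z i⟩)) ∧
        ∀ i, Matrix.trace (π x i) = (r i : k) := by
    intro x hx
    have hb : ∀ i, ∃ (U : (Matrix (Fin (d i)) (Fin (d i)) k)ˣ) (T : Finset (Fin (d i))),
        π x i * U.val = U.val * ∑ j ∈ T, Matrix.single j j (1 : k) := fun i =>
      exists_conj_diagonal _ (congrFun (hx.map π.toRingHom).eq i)
    choose U T hUT using hb
    refine ⟨fun i => (T i).card, fun F hF => ?_, fun i => ?_⟩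
    swap
    · have e1 : π x i = (U i).val * (∑ j ∈ T i, Matrix.single j j (1 : k)) * ((U i)⁻¹).val := by
        rw [← hUT i, Units.mul_inv_cancel_right]
      rw [e1, Matrix.trace_mul_comm, ← mul_assoc, Units.inv_mul, one_mul, Matrix.trace_sum]
      simp
    obtain ⟨W, hW⟩ := exists_unit_map π.toRingHom hπ hs
      (⟨fun i => (U i).val, fun i => ((U i)⁻¹).val, funext fun i => (U i).mul_inv,
        funext fun i => (U i).inv_mul⟩ : (Π l, Matrix (Fin (d l)) (Fin (d l)) k)ˣ)
    set y := (W⁻¹).val * x * W.val with hy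
    have hyi : IsIdempotentElem y := by
      show _ * _ = _
      rw [show y * y = (W⁻¹).val * (x * (W.val * (W⁻¹).val) * x) * W.val by
        simp only [hy, mul_assoc], Units.mul_inv, mul_one, hx.eq]
    let S : Finset I := Finset.univ.sigma T
    have hπy : π y = π (∑ q ∈ S, ε q) := by
      have hW' : π W.val = fun i => (U i).val := hW
      have e1 : π x * π W.val = π W.val * π (∑ q ∈ S, ε q) := by
        funext l
        rw [Pi.mul_apply, Pi.mul_apply, hW', hUT l, map_sum, Finset.sum_apply,
          Finset.sum_sigma, Finset.sum_eq_single l]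
        · simp [hεπ, D]
        · intro i _ hi
          exact Finset.sum_eq_zero fun j _ => by simp [hεπ, D, Ne.symm hi]
        · simp
      rw [hy, map_mul, map_mul, mul_assoc, e1, ← mul_assoc, ← map_mul, Units.inv_mul, map_one,
        one_mul]
    obtain ⟨V, hV⟩ := exists_conj_of_map_eq π.toRingHom hπ hyi hε.isIdempotentElem_sum hπy
    rw [hF.conj x y hx W (by rw [hy, ← mul_assoc, ← mul_assoc, Units.mul_inv, one_mul]),
      hF.conj y _ hyi V hV, hF.map_sum hε.toOrthogonalIdempotents, Finset.sum_sigma]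
    refine Finset.sum_congr rfl fun i _ => ?_
    rw [Finset.sum_congr rfl (g := fun _ => F (ε ⟨i, z i⟩)) fun j _ => hsame F hF ⟨i, j⟩, Finset.sum_const, nsmul_eq_mul]
  refine ⟨{
    n := n
    deg := d
    deg_pos := fun i => Nat.pos_of_ne_zero (NeZero.ne _)
    eps := fun i => ε ⟨i, z i⟩
    tr := fun i => (Matrix.traceLinearMap (Fin (d i)) k k) ∘ₗ (LinearMap.proj i) ∘ₗ π.toLinearMap
    eps_idem := fun i => hε.idem _
    tr_eps := fun i j => ?_
    tr_comm := fun i a b => ?_
    tr_nil := fun i a ha => ?_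
    decomp := fun x hx => (hdec x hx).imp fun r h => h.1
    decomp_tr := fun x hx => (hdec x hx).imp fun r h => ⟨h.1, fun i => h.2 i⟩
    decomp_one := fun F hF => ?_
    central := fun e he hc i => ?_ }⟩
  · show Matrix.trace (π (ε ⟨j, z j⟩) i) = _
    rw [hεπ]
    by_cases hij : i = j
    · subst hij; simp [D]
    · simp [D, hij]
  · show Matrix.trace (π (a * b) i) = Matrix.trace (π (b * a) i)
    rw [map_mul, map_mul, Pi.mul_apply, Pi.mul_apply, Matrix.trace_mul_comm]
  · show Matrix.trace (π a i) = 0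
    exact (Matrix.isNilpotent_trace_of_isNilpotent
      ((ha.map π).map (Pi.evalRingHom (fun l => Matrix (Fin (d l)) (Fin (d l)) k) i))).eq_zero
  · rw [← hε.complete, hF.map_sum hε.toOrthogonalIdempotents, Fintype.sum_sigma]
    refine Finset.sum_congr rfl fun i _ => ?_
    rw [Finset.sum_congr rfl (g := fun _ => F (ε ⟨i, z i⟩)) fun j _ => hsame F hF ⟨i, j⟩, Finset.sum_const, nsmul_eq_mul,
      Finset.card_univ, Fintype.card_fin]
  · have hcomm : ∀ X : Matrix (Fin (d i)) (Fin (d i)) k, Commute X (π e i) := by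
      intro X
      obtain ⟨a, ha⟩ := hs (Pi.single i X)
      have := congrFun (congrArg π (hc a)) i
      have ha' : π a i = X := (congrFun ha i).trans (by simp)
      rw [map_mul, map_mul, Pi.mul_apply, Pi.mul_apply, ha'] at this
      exact this
    obtain ⟨c, hc'⟩ := Matrix.mem_range_scalar_of_commute_single fun a b _ =>
      hcomm (Matrix.single a b 1)
    have hcc : c * c = c := by
      have := congrFun (congrFun (congrFun (he.map π.toRingHom).eq i) (z i)) (z i)
      simp only [Pi.mul_apply, AlgHom.toRingHom_eq_coe, RingHom.coe_coe, ← hc'] at this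
      simpa [← map_mul] using this
    have hidem : IsIdempotentElem (e * ε ⟨i, z i⟩) :=
      he.mul_of_commute (hc _).symm (hε.idem _)
    rcases mul_eq_zero.1 (show c * (c - 1) = 0 by rw [mul_sub, mul_one, hcc, sub_self]) with
      h0 | h1
    · right
      have hpe : π e i = 0 := by rw [← hc', h0, map_zero]
      refine ⟨eq_zero_of_idem_map_eq_zero π.toRingHom hπ hidem ?_, fun a => ?_⟩
      · show π (e * ε ⟨i, z i⟩) = 0
        rw [map_mul, hεπ]
        funext l
        by_cases hl : l = i
        · subst hl; simp [hpe]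
        · simp [D, hl]
      · show Matrix.trace (π (e * a) i) = 0
        simp [hpe]
    · left
      have hpe : π e i = 1 := by rw [← hc', sub_eq_zero.1 h1, map_one]
      have hidem' : IsIdempotentElem ((1 - e) * ε ⟨i, z i⟩) :=
        he.one_sub.mul_of_commute (Commute.sub_left (Commute.one_left _) (hc _).symm) (hε.idem _)
      refine ⟨?_, fun a => ?_⟩
      · have h := eq_zero_of_idem_map_eq_zero π.toRingHom hπ hidem' (by
          show π ((1 - e) * ε ⟨i, z i⟩) = 0
          rw [map_mul, map_sub, map_one, hεπ]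
          funext l
          by_cases hl : l = i
          · subst hl; simp [hpe]
          · simp [D, hl])
        rw [sub_mul, one_mul, sub_eq_zero] at h
        exact h.symm
      · show Matrix.trace (π (e * a) i) = Matrix.trace (π a i)
        simp [hpe]

end CfsgLib.DegreeSq
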