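import Cfsg.Agent.Lib.Blocks.DegreeSq.Lift
import Cfsg.Agent.Lib.Blocks.DegreeSq.Algebra
import Cfsg.Agent.Lib.BlockReg.Regular

/-!
# Multiplicities of ordinary characters in lifted projective idempotents
-/

set_option autoImplicit false
set_option maxHeartbeats 1000000
set_option synthInstance.maxHeartbeats 400000

namespace CfsgLib.DegreeSq

open Cfsg CfsgLib.Blocks CfsgLib.Char
open scoped ComplexConjugate Classical

universe u

variable {M : Ideal AlgInt} [M.IsMaximal] {G : Type u} [Group G] [Fintype G]

/-- The linear extension of a function to the group ring over the local ring. -/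
noncomputable def chR (f : G → ℂ) (a : MonoidAlgebra (locRing M) G) : ℂ :=
  ∑ g : G, (a.coeff g : ℂ) * f g

theorem chR_zero (f : G → ℂ) : chR (M := M) f 0 = 0 := by simp [chR]

theorem chR_add (f : G → ℂ) (a b : MonoidAlgebra (locRing M) G) :
    chR f (a + b) = chR f a + chR f b := by
  simp [chR, add_mul, Finset.sum_add_distrib]

theorem chR_single (f : G → ℂ) (g : G) (r : locRing M) :
    chR f (MonoidAlgebra.single g r) = (r : ℂ) * f g := by
  rw [chR, Finset.sum_eq_single g]
  · simp
  · intro x _ hx; simp [Finsupp.single_eq_of_ne hx]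
  · simp

theorem chR_one (f : G → ℂ) : chR (M := M) f 1 = f 1 := by
  rw [MonoidAlgebra.one_def, chR_single, OneMemClass.coe_one, one_mul]

theorem chR_comm {f : G → ℂ} (hf : Cfsg.IsClassFunction G f)
    (a b : MonoidAlgebra (locRing M) G) : chR f (a * b) = chR f (b * a) := by
  induction a using MonoidAlgebra.induction_linear with
  | zero => simp [chR_zero]
  | add x y hx hy => rw [add_mul, mul_add, chR_add, chR_add, hx, hy]
  | single g r =>
    induction b using MonoidAlgebra.induction_linear with
    | zero => simp [chR_zero]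
    | add x y hx hy => rw [add_mul, mul_add, chR_add, chR_add, hx, hy]
    | single h s =>
      rw [MonoidAlgebra.single_mul_single, MonoidAlgebra.single_mul_single, chR_single, chR_single,
        IsClassFunction.mul_comm' hf g h, mul_comm r s]

/-- The group ring over the local ring acting in a complex representation. -/
noncomputable def actR {V : Type*} [AddCommGroup V] [Module ℂ V] (ρ : Representation ℂ G V) :
    MonoidAlgebra (locRing M) G →+* Module.End ℂ V :=
  ρ.asAlgebraHom.toRingHom.comp (MonoidAlgebra.mapRingHom G (locRing M).subtype)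

theorem actR_single {V : Type*} [AddCommGroup V] [Module ℂ V] (ρ : Representation ℂ G V) (g : G)
    (r : locRing M) : actR ρ (MonoidAlgebra.single g r) = (r : ℂ) • ρ g := by
  simp [actR]

theorem chR_character {V : Type*} [AddCommGroup V] [Module ℂ V] (ρ : Representation ℂ G V)
    (a : MonoidAlgebra (locRing M) G) :
    chR ρ.character a = LinearMap.trace ℂ V (actR ρ a) := by
  induction a using MonoidAlgebra.induction_linear with
  | zero => simp [chR_zero]
  | add x y hx hy => rw [chR_add, hx, hy, map_add, map_add]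
  | single g r => rw [chR_single, actR_single, map_smul, smul_eq_mul]; rfl

theorem exists_nat_chR {χ : G → ℂ} (hχ : Cfsg.IsCharacter G χ)
    {E : MonoidAlgebra (locRing M) G} (hE : IsIdempotentElem E) :
    ∃ m : ℕ, chR χ E = m := by
  obtain ⟨n, ρ, rfl⟩ := hχ
  refine ⟨Module.finrank ℂ (LinearMap.range (actR ρ E)), ?_⟩
  rw [chR_character]
  exact (LinearMap.IsIdempotentElem.isProj_range _ (hE.map (actR ρ))).trace

theorem chR_eq_of_redA_eq {χ : G → ℂ} (hχ : Cfsg.IsClassFunction G χ)
    {E E' : MonoidAlgebra (locRing M) G} (hE : IsIdempotentElem E) (hE' : IsIdempotentElem E')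
    (h : redA M G E = redA M G E') : chR χ E = chR χ E' := by
  obtain ⟨U, hU⟩ := exists_conj_of_redA_eq hE hE' h
  have e : E = U.val * E' * (U⁻¹).val := by rw [← hU, mul_assoc, Units.mul_inv, mul_one]
  rw [e, chR_comm hχ, ← mul_assoc, Units.inv_mul, one_mul]

/-- The multiplicity of an ordinary character in the lift of an idempotent. -/
noncomputable def mult (χ : IrrCharacter G) (ε : MonoidAlgebra (ResField M) G) : ℤ :=
  if h : ∃ E : MonoidAlgebra (locRing M) G, IsIdempotentElem E ∧ redA M G E = ε then
    ((exists_nat_chR (IsIrrCharacter.isCharacter χ.2) h.choose_spec.1).choose : ℤ)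
  else 0

theorem mult_spec (χ : IrrCharacter G) {E : MonoidAlgebra (locRing M) G}
    (hE : IsIdempotentElem E) {ε : MonoidAlgebra (ResField M) G} (h : redA M G E = ε) :
    (mult χ ε : ℂ) = chR (χ : G → ℂ) E := by
  have hex : ∃ E : MonoidAlgebra (locRing M) G, IsIdempotentElem E ∧ redA M G E = ε := ⟨E, hE, h⟩
  rw [mult, dif_pos hex, Int.cast_natCast,
    ← (exists_nat_chR (IsIrrCharacter.isCharacter χ.2) hex.choose_spec.1).choose_spec]
  exact chR_eq_of_redA_eq (IsIrrCharacter.isClassFunction χ.2) hex.choose_spec.1 hE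
    (hex.choose_spec.2.trans h.symm)

theorem mult_nonneg (χ : IrrCharacter G) (ε : MonoidAlgebra (ResField M) G) : 0 ≤ mult χ ε := by
  unfold mult
  split_ifs
  · exact Int.natCast_nonneg _
  · exact le_rfl

theorem mult_one (χ : IrrCharacter G) :
    (mult (M := M) χ 1 : ℂ) = (χ : G → ℂ) 1 := by
  rw [mult_spec χ IsIdempotentElem.one (map_one _), chR_one]

theorem isIdemFun_mult (χ : IrrCharacter G) : IsIdemFun (mult (M := M) χ) := by
  refine ⟨fun x y hx u hxy => ?_, fun x y hx hy h1 h2 => ?_⟩
  · obtain ⟨E, hE, hEx⟩ := exists_idem_lift hx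
    obtain ⟨U, hU⟩ := exists_unit_lift u
    have hE' : IsIdempotentElem ((U⁻¹).val * E * U.val) := by
      show _ * _ = _
      rw [show (U⁻¹).val * E * U.val * ((U⁻¹).val * E * U.val) =
        (U⁻¹).val * (E * (U.val * (U⁻¹).val) * E) * U.val by simp only [mul_assoc],
        Units.mul_inv, mul_one, hE.eq]
    have hred : redA M G ((U⁻¹).val * E * U.val) = y := by
      have h1 : redA M G (U⁻¹).val * u.val = 1 := by
        rw [← hU, ← map_mul, Units.inv_mul, map_one]
      rw [map_mul, map_mul, hEx, hU, mul_assoc, hxy, ← mul_assoc, h1, one_mul]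
    have := mult_spec χ hE' hred
    rw [chR_comm (IsIrrCharacter.isClassFunction χ.2), ← mul_assoc, Units.mul_inv, one_mul,
      ← mult_spec χ hE hEx] at this
    exact_mod_cast this.symm
  · have hxy : IsIdempotentElem (x + y) := by
      show _ = _
      rw [mul_add, add_mul, add_mul, hx.eq, hy.eq, h1, h2, add_zero, zero_add]
    obtain ⟨E, hE, hEr⟩ := exists_idem_lift hxy
    obtain ⟨E', hE', hE'r, hl, hr⟩ := exists_idem_lift_le hE hx
      (by rw [hEr, add_mul, hx.eq, h2, add_zero]) (by rw [hEr, mul_add, hx.eq, h1, add_zero])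
    have hd : IsIdempotentElem (E - E') := by
      show _ = _
      rw [sub_mul, mul_sub, mul_sub, hE.eq, hE'.eq, hl, hr]
      abel
    have e : ((mult χ (x + y) : ℤ) : ℂ) = ((mult χ x + mult χ y : ℤ) : ℂ) := by
      rw [mult_spec χ hE hEr, Int.cast_add, mult_spec χ hE' hE'r,
        mult_spec χ hd (ε := y) (by rw [map_sub, hEr, hE'r, add_sub_cancel_left]), ← chR_add,
        add_sub_cancel]
    exact_mod_cast e

/-- A character value in the local ring. -/
noncomputable def valR (M : Ideal AlgInt) [M.IsPrime] (χ : IrrCharacter G) (g : G) : locRing M :=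
  ⟨(χ : G → ℂ) g, isIntegral_mem_locRing (CfsgLib.BlockReg.isIntegral_char χ g)⟩

/-- Multiplicities modulo `p` are traces. -/
theorem cast_mult (χ : IrrCharacter G) {ε : MonoidAlgebra (ResField M) G}
    (hε : IsIdempotentElem ε) :
    (mult χ ε : ResField M) = ∑ g : G, ε.coeff g * red M (valR M χ g) := by
  obtain ⟨E, hE, hEr⟩ := exists_idem_lift hε
  have h : (mult χ ε : locRing M) = ∑ g : G, E.coeff g * valR M χ g := by
    apply Subtype.ext
    rw [AddSubmonoidClass.coe_finsetSum]
    have := mult_spec χ hE hEr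
    simpa [chR, valR] using this
  rw [← map_intCast (red M), h, map_sum]
  exact Finset.sum_congr rfl fun g _ => by rw [map_mul, ← hEr, coeff_redA]

/-- The degree of the projective character of a lifted idempotent. -/
theorem sum_mult_mul_one {E : MonoidAlgebra (locRing M) G}
    (hE : IsIdempotentElem E) {ε : MonoidAlgebra (ResField M) G} (h : redA M G E = ε) :
    ∑ χ : IrrCharacter G, (mult χ ε : ℂ) * (χ : G → ℂ) 1 =
      (Nat.card G : ℂ) * (E.coeff 1 : ℂ) := by
  simp only [mult_spec _ hE h, chR, Finset.sum_mul]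
  rw [Finset.sum_comm, Finset.sum_eq_single 1]
  · simp only [mul_assoc, ← Finset.mul_sum]
    have h1 := CfsgLib.Char.sum_mul_conj (G := G) 1 1
    rw [if_pos (IsConj.refl 1)] at h1
    have h2 : (Nat.card (Subgroup.centralizer ({1} : Set G)) : ℂ) = (Nat.card G : ℂ) := by
      rw [show Subgroup.centralizer ({1} : Set G) = ⊤ by
        ext x; simp [Subgroup.mem_centralizer_singleton_iff], Subgroup.card_top]
    rw [h2] at h1
    rw [mul_comm (Nat.card G : ℂ), ← h1]
    congr 1
    refine Finset.sum_congr rfl fun χ _ => ?_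
    congr 1
    rw [← IsIrrCharacter.apply_inv χ.2, inv_one]
  · intro g _ hg
    simp only [mul_assoc, ← Finset.mul_sum]
    refine mul_eq_zero_of_right _ ?_
    have h1 := CfsgLib.Char.sum_mul_conj (G := G) g 1
    rw [if_neg (fun hc => hg (isConj_one_left.1 hc))] at h1
    rw [← h1]
    refine Finset.sum_congr rfl fun χ _ => ?_
    rw [← IsIrrCharacter.apply_inv χ.2, inv_one]
  · simp

/-- Block idempotents act as scalars in irreducible representations. -/
theorem chR_mul_blockIdemR {B : Set (IrrCharacter G)} (hB : IsPBlock M B) (χ : IrrCharacter G)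
    (a : MonoidAlgebra (locRing M) G) :
    chR (χ : G → ℂ) (a * (blockIdemR hB : MonoidAlgebra (locRing M) G)) =
      blockInd B χ * chR (χ : G → ℂ) a := by
  set E := (blockIdemR hB : MonoidAlgebra (locRing M) G) with hE
  obtain ⟨n, ρ, hirr, hρ⟩ := χ.2
  haveI := hirr
  obtain ⟨c, hc⟩ := CfsgLib.Char.exists_scalar_of_commute ρ (actR ρ E) (fun g => by
    have h1 := Subalgebra.mem_center_iff.1 (blockIdemR hB).2 (MonoidAlgebra.single g 1)
    have h2 := congrArg (actR ρ) h1
    rw [map_mul, map_mul, actR_single, OneMemClass.coe_one, one_smul] at h2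
    exact h2.symm)
  have hac : ∀ b, chR (χ : G → ℂ) (b * E) = c * chR (χ : G → ℂ) b := fun b => by
    rw [← hρ, chR_character, chR_character, map_mul, hc, mul_smul_comm, mul_one, map_smul,
      smul_eq_mul]
  rw [hac]
  congr 1
  have h1 := hac 1
  rw [one_mul, chR_one] at h1
  have h2 : chR (χ : G → ℂ) E = blockInd B χ * (χ : G → ℂ) 1 := by
    have h3 := CfsgLib.BlockReg.sum_blockCoeff_mul_char B χ
    have e : chR (χ : G → ℂ) E = ∑ g, blockCoeff B g * (χ : G → ℂ) g := by
      simp [chR, hE, coe_coeff_blockIdemR]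
    rw [e]
    unfold blockInd
    split_ifs with hχ
    · rw [one_mul]
      exact div_eq_one_iff_eq (IsIrrCharacter.apply_one_ne_zero χ.2) |>.1 (h3.1 hχ)
    · rw [zero_mul]
      exact (div_eq_zero_iff.1 (h3.2 hχ)).resolve_right (IsIrrCharacter.apply_one_ne_zero χ.2)
  exact mul_right_cancel₀ (IsIrrCharacter.apply_one_ne_zero χ.2) (h1.symm.trans h2)

/-- Idempotents in a block only involve the characters of the block. -/
theorem mult_eq_zero_of_not_mem {B : Set (IrrCharacter G)} (hB : IsPBlock M B)
    {ε : MonoidAlgebra (ResField M) G} (hε : IsIdempotentElem ε)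
    (he : (blockIdem hB : MonoidAlgebra (ResField M) G) * ε = ε)
    {χ : IrrCharacter G} (hχ : χ ∉ B) : mult χ ε = 0 := by
  obtain ⟨E, hE, hEr⟩ := exists_idem_lift hε
  set W := (blockIdemR hB : MonoidAlgebra (locRing M) G) with hW
  have hc : ∀ x, x * W = W * x := Subalgebra.mem_center_iff.1 (blockIdemR hB).2
  have hWi : IsIdempotentElem W := congrArg Subtype.val (isIdempotentElem_blockIdemR hB).eq
  have hEW : IsIdempotentElem (E * W) := hE.mul_of_commute (hc E) hWi
  have hr : redA M G (E * W) = ε := by
    rw [hc, map_mul, hEr]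
    exact he
  have h := mult_spec χ hEW hr
  rw [chR_mul_blockIdemR hB, blockInd, if_neg hχ, zero_mul] at h
  exact_mod_cast h

end CfsgLib.DegreeSq
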