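import Cfsg.Agent.Lib.Blocks.Osima
import Mathlib.Analysis.Complex.Polynomial.Basic
import Mathlib.RingTheory.Polynomial.Basic
import Mathlib.RingTheory.IntegralClosure.IsIntegral.Basic
import Mathlib.RingTheory.Localization.Integral
import Mathlib.RingTheory.Nakayama
import Mathlib.RingTheory.Jacobson.Ideal

/-!
# Lifting idempotents and units from the modular group algebra

The local ring at `M` has algebraically closed field of fractions and is integrally closed, so
idempotents of the residual group algebra lift.
-/

set_option autoImplicit false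
set_option maxHeartbeats 1000000
set_option synthInstance.maxHeartbeats 400000

namespace CfsgLib.DegreeSq

open Cfsg CfsgLib.Blocks Polynomial
open scoped Classical

universe u

variable {M : Ideal AlgInt}

section Roots

variable [M.IsMaximal]

theorem exists_clear (s : Finset ℂ) (hs : ∀ z ∈ s, z ∈ locRing M) :
    ∃ b : AlgInt, b ∉ M ∧ ∀ z ∈ s, ∃ a : AlgInt, (a : ℂ) = b * z := by
  induction s using Finset.induction_on with
  | empty => exact ⟨1, fun h => (‹M.IsMaximal›).ne_top ((Ideal.eq_top_iff_one M).2 h), by simp⟩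
  | @insert x t _ ih =>
    obtain ⟨b, hb, hbt⟩ := ih fun z hz => hs z (Finset.mem_insert_of_mem hz)
    obtain ⟨a, c, hc, hac⟩ := hs x (Finset.mem_insert_self x t)
    refine ⟨c * b, fun h => (Ideal.IsPrime.mem_or_mem inferInstance h).elim hc hb, fun z hz => ?_⟩
    rcases Finset.mem_insert.1 hz with rfl | hz
    · refine ⟨b * a, ?_⟩
      rw [← hac]
      push_cast
      field_simp [algInt_coe_ne_zero hc]
    · obtain ⟨a', ha'⟩ := hbt z hz
      exact ⟨c * a', by push_cast; rw [ha']; ring⟩

/-- The local ring is integrally closed in `ℂ`. -/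
theorem mem_locRing_of_root {f : (locRing M)[X]} (hf : f.Monic) {r : ℂ}
    (hr : aeval r f = 0) : r ∈ locRing M := by
  obtain ⟨b, hb, hbs⟩ := exists_clear (M := M) (f.support.image fun i => ((f.coeff i : locRing M) : ℂ))
    (fun z hz => by
      obtain ⟨i, -, rfl⟩ := Finset.mem_image.1 hz
      exact SetLike.coe_mem _)
  have hb0 : (b : ℂ) ≠ 0 := algInt_coe_ne_zero hb
  set F : ℂ[X] := f.map (locRing M).subtype with hF
  have hFm : F.Monic := hf.map _
  have heval : (F.scaleRoots (b : ℂ)).eval ((b : ℂ) * r) = 0 := by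
    have h0 : F.eval r = 0 := by
      rw [hF, eval_map]
      exact hr
    rw [scaleRoots_eval_mul, h0, mul_zero]
  have hcoef : F.scaleRoots (b : ℂ) ∈ Polynomial.lifts (algebraMap AlgInt ℂ) := by
    rw [lifts_iff_coeff_lifts]
    intro i
    rw [coeff_scaleRoots, hF, Polynomial.coeff_map, Polynomial.natDegree_map_eq_of_injective
      Subtype.val_injective]
    rcases lt_trichotomy i f.natDegree with hlt | rfl | hgt
    · by_cases hi : f.coeff i = 0
      · exact ⟨0, by simp [hi]⟩
      obtain ⟨a, ha⟩ := hbs _ (Finset.mem_image_of_mem _ (mem_support_iff.2 hi))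
      refine ⟨a * b ^ (f.natDegree - i - 1), ?_⟩
      show ((a * b ^ (f.natDegree - i - 1) : AlgInt) : ℂ) = _
      push_cast
      rw [ha]
      conv_rhs => rw [show f.natDegree - i = f.natDegree - i - 1 + 1 by omega, pow_succ]
      simp only [Subring.coe_subtype]
      ring
    · exact ⟨1, by simp [hf.coeff_natDegree]⟩
    · exact ⟨0, by simp [coeff_eq_zero_of_natDegree_lt hgt]⟩
  obtain ⟨Q, hQ, -, hQm⟩ := lifts_and_natDegree_eq_and_monic hcoef
    ((monic_scaleRoots_iff _).2 hFm)
  have hint : IsIntegral AlgInt ((b : ℂ) * r) :=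
    ⟨Q, hQm, by rw [← eval_map, hQ, heval]⟩
  have hint' : IsIntegral ℤ ((b : ℂ) * r) := isIntegral_trans _ hint
  exact ⟨⟨_, hint'⟩, b, hb, by simp [mul_div_cancel_left₀ _ hb0]⟩

/-- Monic polynomials over the local ring split into linear factors. -/
theorem exists_eq_prod {f : (locRing M)[X]} (hf : f.Monic) :
    ∃ s : Multiset (locRing M), f = (s.map fun r => X - C r).prod := by
  set F : ℂ[X] := f.map (locRing M).subtype with hF
  have hFm : F.Monic := hf.map _
  have hmem : ∀ r ∈ F.roots, r ∈ locRing M := fun r hr =>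
    mem_locRing_of_root hf (by
      have := (mem_roots'.1 hr).2
      rwa [IsRoot, hF, eval_map] at this)
  refine ⟨F.roots.attach.map fun r => ⟨r.1, hmem r.1 r.2⟩, ?_⟩
  apply Polynomial.map_injective (locRing M).subtype Subtype.val_injective
  rw [← hF, Polynomial.map_multiset_prod, Multiset.map_map, Multiset.map_map]
  conv_lhs => rw [(IsAlgClosed.splits F).eq_prod_roots_of_monic hFm]
  congr 1
  conv_lhs => rw [← Multiset.attach_map_val F.roots, Multiset.map_map]
  refine Multiset.map_congr rfl fun r _ => ?_
  simp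

/-- The residue field is algebraically closed. -/
theorem isAlgClosed_resField : IsAlgClosed (ResField M) := by
  refine IsAlgClosed.of_exists_root _ fun q hq hirr => ?_
  obtain ⟨P, hP, hdeg, hPm⟩ := lifts_and_natDegree_eq_and_monic
    (f := red M) (map_surjective (red M) red_surjective q) hq
  obtain ⟨s, hs⟩ := exists_eq_prod hPm
  have hpos : 0 < P.natDegree := by rw [hdeg]; exact hirr.natDegree_pos
  obtain ⟨r, hr⟩ : ∃ r, r ∈ s := by
    by_contra hne
    push Not at hne
    rw [Multiset.eq_zero_of_forall_notMem hne, Multiset.map_zero, Multiset.prod_zero] at hs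
    rw [hs, natDegree_one] at hpos
    exact lt_irrefl 0 hpos
  refine ⟨red M r, ?_⟩
  rw [← hP, eval_map, eval₂_hom, hs, eval_multiset_prod, Multiset.map_map]
  rw [Multiset.prod_eq_zero, map_zero]
  exact Multiset.mem_map.2 ⟨r, hr, by simp⟩

end Roots

variable [M.IsMaximal] {G : Type u} [Group G] [Finite G]

/-- Reduction of the group ring. -/
noncomputable def redA (M : Ideal AlgInt) [M.IsMaximal] (G : Type u) [Group G] :
    MonoidAlgebra (locRing M) G →+* MonoidAlgebra (ResField M) G :=
  MonoidAlgebra.mapRingHom G (red M)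

omit [Finite G] in
theorem coeff_redA (a : MonoidAlgebra (locRing M) G) (g : G) :
    (redA M G a).coeff g = red M (a.coeff g) := by simp [redA]

omit [Finite G] in
theorem redA_algebraMap (r : locRing M) :
    redA M G (algebraMap _ _ r) = algebraMap (ResField M) _ (red M r) := by
  simp [redA]

theorem redA_surjective : Function.Surjective (redA M G) := fun a => by
  choose s hs using red_surjective (M := M)
  exact ⟨ofFun fun g => s (a.coeff g),
    MonoidAlgebra.ext (Finsupp.ext fun g => by simp [coeff_redA, hs])⟩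

omit [Finite G] in
theorem redA_aeval (a : MonoidAlgebra (locRing M) G) (P : (locRing M)[X]) :
    redA M G (aeval a P) = aeval (redA M G a) (P.map (red M)) :=
  (Polynomial.map_aeval_eq_aeval_map (φ := red M) (ψ := redA M G)
    (RingHom.ext fun r => (redA_algebraMap r).symm) P a)

theorem aeval_idem {k A : Type*} [CommRing k] [Ring A] [Algebra k A] {e : A}
    (he : IsIdempotentElem e) (P : k[X]) :
    aeval e P = P.eval 1 • e + P.eval 0 • (1 - e) := by
  induction P using Polynomial.induction_on' with
  | add p q hp hq => rw [map_add, hp, hq, eval_add, eval_add, add_smul, add_smul]; abel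
  | monomial n c =>
    rcases n with _ | n
    · rw [monomial_zero_left, aeval_C, eval_C, eval_C, ← smul_add, add_sub_cancel,
        Algebra.algebraMap_eq_smul_one]
    · rw [aeval_monomial, he.pow_succ_eq, eval_monomial, eval_monomial, one_pow, mul_one,
        zero_pow (Nat.succ_ne_zero n), mul_zero, zero_smul, add_zero, ← Algebra.smul_def]

theorem commute_aeval {k A : Type*} [CommRing k] [Ring A] [Algebra k A] {a b : A}
    (h : Commute a b) (P : k[X]) : Commute (aeval a P) b := by
  induction P using Polynomial.induction_on' with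
  | add p q hp hq => rw [map_add]; exact hp.add_left hq
  | monomial n c =>
    rw [aeval_monomial]
    exact (Algebra.commute_algebraMap_left c b).mul_left (h.pow_left n)

/-- An element with idempotent reduction has a polynomial in it lifting that idempotent. -/
theorem exists_idem_aeval (a : MonoidAlgebra (locRing M) G)
    (he : IsIdempotentElem (redA M G a)) :
    ∃ P : (locRing M)[X], IsIdempotentElem (aeval a P) ∧ redA M G (aeval a P) = redA M G a := by
  by_cases h0 : redA M G a = 0
  · exact ⟨0, by simp [IsIdempotentElem], by simp [h0]⟩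
  by_cases h1 : redA M G a = 1
  · exact ⟨1, by simp [IsIdempotentElem], by simp [h1]⟩
  haveI : Module.Finite (locRing M) (MonoidAlgebra (locRing M) G) :=
    Module.Finite.of_basis (MonoidAlgebra.basis G (locRing M))
  obtain ⟨f, hfm, hfa⟩ := IsIntegral.of_finite (locRing M) a
  rw [← aeval_def] at hfa
  obtain ⟨s, hs⟩ := exists_eq_prod hfm
  let S : (locRing M)[X] := ((s.filter fun r => red M r ≠ 1).map fun r => X - C r).prod
  let Q : (locRing M)[X] := ((s.filter fun r => ¬ red M r ≠ 1).map fun r => X - C r).prod
  have hSQ : f = S * Q := by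
    rw [hs, ← Multiset.prod_add, ← Multiset.map_add, Multiset.filter_add_not]
  have hcop : IsCoprime S Q := by
    have key : ∀ (t : Multiset (locRing M)) (P : (locRing M)[X]),
        (∀ r ∈ t, IsCoprime (X - C r) P) → IsCoprime (t.map fun r => X - C r).prod P := by
      intro t P
      induction t using Multiset.induction_on with
      | empty => intro _; simpa using isCoprime_one_left
      | cons r t ih =>
        intro h
        rw [Multiset.map_cons, Multiset.prod_cons]
        exact (h r (Multiset.mem_cons_self r t)).mul_left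
          (ih fun x hx => h x (Multiset.mem_cons_of_mem hx))
    refine key _ _ fun r hr => (key _ _ fun r' hr' => ?_).symm
    refine isCoprime_X_sub_C_of_isUnit_sub (isUnit_of_red_ne_zero ?_)
    rw [map_sub, sub_ne_zero]
    have e1 := (Multiset.mem_filter.1 hr).2
    have e2 : red M r' = 1 := not_not.1 (Multiset.mem_filter.1 hr').2
    rw [e2]
    exact Ne.symm e1
  obtain ⟨x, y, hxy⟩ := hcop
  refine ⟨x * S, ?_, ?_⟩
  · have h2 : x * S * (x * S) = x * S - x * y * f := by
      rw [hSQ]; linear_combination (x * S) * hxy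
    show _ * _ = _
    rw [← map_mul, h2, map_sub, map_mul (aeval a) (x * y), hfa, mul_zero, sub_zero]
  · set ε := redA M G a with hε
    have hfe : aeval ε (f.map (red M)) = 0 := by rw [hε, ← redA_aeval, hfa, map_zero]
    rw [aeval_idem he] at hfe
    have hf1 : (f.map (red M)).eval 1 = 0 := by
      by_contra hne
      have := congrArg (ε * ·) hfe
      simp only [mul_add, mul_smul_comm, he.eq, he.mul_one_sub_self, smul_zero, add_zero,
        mul_zero] at this
      exact h0 ((smul_eq_zero.1 this).resolve_left hne)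
    have hf0 : (f.map (red M)).eval 0 = 0 := by
      by_contra hne
      have := congrArg ((1 - ε) * ·) hfe
      simp only [mul_add, mul_smul_comm, he.one_sub.eq, he.one_sub_mul_self, smul_zero, zero_add,
        mul_zero] at this
      exact h1 (sub_eq_zero.1 ((smul_eq_zero.1 this).resolve_left hne)).symm
    have hprod : ∀ (t : Multiset (locRing M)) (c : ResField M),
        (((t.map fun r => X - C r).prod).map (red M)).eval c =
          (t.map fun r => c - red M r).prod := by
      intro t c
      rw [Polynomial.map_multiset_prod, eval_multiset_prod, Multiset.map_map, Multiset.map_map]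
      congr 1
      exact Multiset.map_congr rfl fun r _ => by simp
    have hS1 : (S.map (red M)).eval 1 ≠ 0 := by
      rw [hprod]
      refine Multiset.prod_ne_zero fun h => ?_
      obtain ⟨r, hr, hr0⟩ := Multiset.mem_map.1 h
      exact (Multiset.mem_filter.1 hr).2 (sub_eq_zero.1 hr0).symm
    have hQ0 : (Q.map (red M)).eval 0 ≠ 0 := by
      rw [hprod]
      refine Multiset.prod_ne_zero fun h => ?_
      obtain ⟨r, hr, hr0⟩ := Multiset.mem_map.1 h
      rw [not_not.1 (Multiset.mem_filter.1 hr).2] at hr0
      simp at hr0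
    rw [hSQ, Polynomial.map_mul, eval_mul] at hf0 hf1
    have hQ1 := (mul_eq_zero.1 hf1).resolve_left hS1
    have hS0 := (mul_eq_zero.1 hf0).resolve_right hQ0
    have e3 := congrArg (fun P : (locRing M)[X] => (P.map (red M)).eval 1) hxy
    simp only [Polynomial.map_add, Polynomial.map_mul, eval_add, eval_mul, hQ1, mul_zero, add_zero,
      Polynomial.map_one, eval_one] at e3
    rw [redA_aeval, ← hε, aeval_idem he, Polynomial.map_mul, eval_mul, eval_mul, e3, hS0,
      mul_zero, zero_smul, add_zero, one_smul]

/-- Idempotents lift. -/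
theorem exists_idem_lift {ε : MonoidAlgebra (ResField M) G} (hε : IsIdempotentElem ε) :
    ∃ E : MonoidAlgebra (locRing M) G, IsIdempotentElem E ∧ redA M G E = ε := by
  obtain ⟨a, rfl⟩ := redA_surjective ε
  obtain ⟨P, hP, hP'⟩ := exists_idem_aeval a hε
  exact ⟨_, hP, hP'⟩

/-- Idempotents lift below a given lift. -/
theorem exists_idem_lift_le {E : MonoidAlgebra (locRing M) G} (hE : IsIdempotentElem E)
    {ε : MonoidAlgebra (ResField M) G} (hε : IsIdempotentElem ε)
    (h1 : redA M G E * ε = ε) (h2 : ε * redA M G E = ε) :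
    ∃ E' : MonoidAlgebra (locRing M) G,
      IsIdempotentElem E' ∧ redA M G E' = ε ∧ E * E' = E' ∧ E' * E = E' := by
  obtain ⟨a₀, ha₀⟩ := redA_surjective ε
  set a := E * a₀ * E with ha
  have hra : redA M G a = ε := by rw [ha, map_mul, map_mul, ha₀, h1, h2]
  have hcomm : Commute a E := by
    show a * E = E * a
    rw [ha, mul_assoc _ E E, hE.eq]
    simp only [← mul_assoc, hE.eq]
  obtain ⟨P, hP, hP'⟩ := exists_idem_aeval a (hra.symm ▸ hε)
  have hc : Commute (aeval a P) E := commute_aeval hcomm P
  refine ⟨aeval a P * E, hP.mul_of_commute hc hE, ?_, ?_, ?_⟩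
  · rw [map_mul, hP', hra, h2]
  · rw [← mul_assoc, ← hc.eq, mul_assoc, hE.eq]
  · rw [mul_assoc, hE.eq]

theorem exists_eq_single_sum (x : MonoidAlgebra (locRing M) G) [Fintype G] :
    x = ∑ g : G, x.coeff g • MonoidAlgebra.single g (1 : locRing M) := by
  ext g
  simp [MonoidAlgebra.coeff_sum, Finsupp.finsetSum_apply, Finsupp.single_apply]

theorem ker_red_le_jac : RingHom.ker (red M) ≤ (⊥ : Ideal (locRing M)).jacobson := by
  intro x hx
  rw [Ideal.mem_jacobson_bot]
  intro y
  refine isUnit_of_red_ne_zero ?_
  rw [map_add, map_mul, RingHom.mem_ker.mp hx, zero_mul, zero_add, map_one]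
  exact one_ne_zero

theorem surjective_of_redA
    (f : MonoidAlgebra (locRing M) G →ₗ[locRing M] MonoidAlgebra (locRing M) G)
    (h : ∀ x, redA M G (f x) = redA M G x) : Function.Surjective f := by
  haveI := Fintype.ofFinite G
  haveI : Module.Finite (locRing M) (MonoidAlgebra (locRing M) G) :=
    Module.Finite.of_basis (MonoidAlgebra.basis G (locRing M))
  have hle : (⊤ : Submodule (locRing M) (MonoidAlgebra (locRing M) G)) ≤
      LinearMap.range f ⊔ RingHom.ker (red M) • (⊤ : Submodule (locRing M) _) := by
    intro x _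
    have hd : x - f x ∈ RingHom.ker (red M) •
        (⊤ : Submodule (locRing M) (MonoidAlgebra (locRing M) G)) := by
      rw [exists_eq_single_sum (x - f x)]
      refine sum_mem fun g _ => Submodule.smul_mem_smul ?_ trivial
      rw [RingHom.mem_ker, ← coeff_redA, map_sub, h]
      simp
    exact Submodule.mem_sup.2 ⟨f x, LinearMap.mem_range_self f x, _, hd, by abel⟩
  have := Submodule.le_of_le_smul_of_le_jacobson_bot Module.Finite.fg_top ker_red_le_jac hle
  exact LinearMap.range_eq_top.1 (top_le_iff.1 this)

/-- An element reducing to one is a unit. -/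
theorem isUnit_of_redA_eq_one {a : MonoidAlgebra (locRing M) G} (h : redA M G a = 1) :
    IsUnit a := by
  obtain ⟨b, hb⟩ := surjective_of_redA (LinearMap.mulLeft _ a) (fun x => by simp [h]) 1
  obtain ⟨c, hc⟩ := surjective_of_redA (LinearMap.mulRight _ a) (fun x => by simp [h]) 1
  simp only [LinearMap.mulLeft_apply, LinearMap.mulRight_apply] at hb hc
  have hcb : c = b := by rw [← mul_one c, ← hb, ← mul_assoc, hc, one_mul]
  exact ⟨⟨a, b, hb, hcb ▸ hc⟩, rfl⟩

/-- Units lift. -/
theorem exists_unit_lift (u : (MonoidAlgebra (ResField M) G)ˣ) :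
    ∃ U : (MonoidAlgebra (locRing M) G)ˣ, redA M G U = u := by
  obtain ⟨a, ha⟩ := redA_surjective (u : MonoidAlgebra (ResField M) G)
  obtain ⟨b, hb⟩ := redA_surjective ((u⁻¹).val : MonoidAlgebra (ResField M) G)
  have hab : redA M G (a * b) = 1 := by
    rw [map_mul, ha, hb]
    exact u.mul_inv
  have hba : redA M G (b * a) = 1 := by
    rw [map_mul, ha, hb]
    exact u.inv_mul
  obtain ⟨v, hv⟩ := isUnit_of_redA_eq_one hab
  obtain ⟨w, hw⟩ := isUnit_of_redA_eq_one hba
  have hl : a * (b * (v⁻¹).val) = 1 := by
    rw [← mul_assoc, ← hv]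
    exact v.mul_inv
  have hr : ((w⁻¹).val * b) * a = 1 := by
    rw [mul_assoc, ← hw]
    exact w.inv_mul
  have he : (w⁻¹).val * b = b * (v⁻¹).val := left_inv_eq_right_inv hr hl
  have hr' : b * (v⁻¹).val * a = 1 := by
    rw [← he]
    exact hr
  exact ⟨⟨a, b * (v⁻¹).val, hl, hr'⟩, ha⟩

/-- Idempotents with equal reductions are conjugate. -/
theorem exists_conj_of_redA_eq {E E' : MonoidAlgebra (locRing M) G} (hE : IsIdempotentElem E)
    (hE' : IsIdempotentElem E') (h : redA M G E = redA M G E') :
    ∃ U : (MonoidAlgebra (locRing M) G)ˣ, E * ↑U = ↑U * E' := by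
  have hε : IsIdempotentElem (redA M G E') := hE'.map _
  obtain ⟨U, hU⟩ := isUnit_of_redA_eq_one (a := E * E' + (1 - E) * (1 - E')) (by
    rw [map_add, map_mul, map_mul, map_sub, map_sub, map_one, h, hε.eq, hε.one_sub.eq]
    abel)
  refine ⟨U, ?_⟩
  rw [hU, mul_add, add_mul, ← mul_assoc, hE.eq, ← mul_assoc, hE.mul_one_sub_self, zero_mul,
    add_zero, mul_assoc, hE'.eq, mul_assoc (1 - E), hE'.one_sub_mul_self, mul_zero, add_zero]

end CfsgLib.DegreeSq
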