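import Cfsg.Agent.Lib.Blocks.DegreeSq.Mult
import Cfsg.Agent.Lib.Blocks.Cover
import Cfsg.Agent.Lib.BlockReg.Bounds
import Cfsg.Agent.Lib.BlockRank.Basic
import Cfsg.Agent.Lib.Blocks.Defect
import Cfsg.Agent.Lib.Char.Brauer
import Cfsg.Agent.Lib.Char.Monomial
import Cfsg.Agent.Lib.Solvable.Core

/-!
# The sum of squared degrees in a block and the number of simple modules
-/

set_option autoImplicit false
set_option maxHeartbeats 1000000
set_option synthInstance.maxHeartbeats 400000

namespace CfsgLib.DegreeSq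

open Cfsg CfsgLib.Blocks CfsgLib.Char
open scoped ComplexConjugate Classical

universe u v

variable {p : ℕ} [Fact p.Prime] {M : Ideal AlgInt} [M.IsMaximal] {G : Type u} [Group G] [Fintype G]
  (D : IdemData (ResField M) (MonoidAlgebra (ResField M) G))

/-- A virtual combination of the projective columns. -/
def InProj (v : IrrCharacter G → ℂ) : Prop :=
  ∃ z : Fin D.n → ℤ, ∀ χ, v χ = ∑ i, (z i : ℂ) * (mult χ (D.eps i) : ℂ)

omit [Fact p.Prime] in
theorem InProj.zero : InProj D 0 := ⟨0, fun χ => by simp⟩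

omit [Fact p.Prime] in
theorem InProj.add {v w : IrrCharacter G → ℂ} (hv : InProj D v) (hw : InProj D w) :
    InProj D (v + w) := by
  obtain ⟨z, hz⟩ := hv
  obtain ⟨y, hy⟩ := hw
  exact ⟨z + y, fun χ => by simp [hz χ, hy χ, add_mul, Finset.sum_add_distrib]⟩

omit [Fact p.Prime] in
theorem InProj.zmul {v : IrrCharacter G → ℂ} (hv : InProj D v) (m : ℤ) :
    InProj D (fun χ => (m : ℂ) * v χ) := by
  obtain ⟨z, hz⟩ := hv
  exact ⟨fun i => m * z i, fun χ => by simp [hz χ, Finset.mul_sum, mul_assoc]⟩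

omit [Fact p.Prime] in
theorem InProj.sum {ι : Type*} (s : Finset ι) (f : ι → IrrCharacter G → ℂ)
    (h : ∀ i ∈ s, InProj D (f i)) : InProj D (∑ i ∈ s, f i) :=
  Finset.sum_induction f (InProj D) (fun _ _ => InProj.add D) (InProj.zero D) h

/-- A linear character of a `p'`-group gives a projective column. -/
theorem inProj_linear (hM : IsPModular p M) {K : Type u} [Group K] [Fintype K]
    (hK : ¬ p ∣ Nat.card K) (j : K →* G) (lam : K →* ℂˣ) :
    InProj D (fun χ => classInner (fun k => (lam k : ℂ)) (fun k => (χ : G → ℂ) (j k))) := by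
  have hlam : ∀ k, ((lam k : ℂˣ) : ℂ) ∈ locRing M := fun k =>
    CfsgLib.BlockReg.memRing_of_pow_eq_one hM (orderOf_pos k)
      (by rw [← Units.val_pow_eq_pow_val, ← map_pow, pow_orderOf_eq_one, map_one, Units.val_one])
  have hinv : (Nat.card K : ℂ)⁻¹ ∈ locRing M := CfsgLib.BlockReg.memRing_inv_natCast hM hK
  let c : K → locRing M := fun k => ⟨(Nat.card K : ℂ)⁻¹ * (lam k⁻¹ : ℂ),
    mul_mem hinv (hlam k⁻¹)⟩
  let E : MonoidAlgebra (locRing M) G := ∑ k, MonoidAlgebra.single (j k) (c k)
  have hE : IsIdempotentElem E := by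
    show _ * _ = _
    simp only [E, Finset.sum_mul, Finset.mul_sum, MonoidAlgebra.single_mul_single, ← map_mul]
    have h1 : ∀ a b : K, MonoidAlgebra.single (j (a * b)) (c a * c b) =
        MonoidAlgebra.single (j (a * b))
          ((⟨(Nat.card K : ℂ)⁻¹, hinv⟩ : locRing M) * c (a * b)) := fun a b => by
      congr 1
      apply Subtype.ext
      simp [c, mul_inv_rev]
      ring
    simp only [h1]
    have h2 : ∀ a : K, ∑ b, MonoidAlgebra.single (j (a * b))
        ((⟨(Nat.card K : ℂ)⁻¹, hinv⟩ : locRing M) * c (a * b)) =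
        ∑ b, MonoidAlgebra.single (j b) ((⟨(Nat.card K : ℂ)⁻¹, hinv⟩ : locRing M) * c b) :=
      fun a => Fintype.sum_equiv (Equiv.mulLeft a) _ _ fun b => rfl
    rw [Finset.sum_comm]
    simp only [h2, Finset.sum_const, Finset.card_univ]
    rw [Finset.smul_sum]
    refine Finset.sum_congr rfl fun b _ => ?_
    rw [MonoidAlgebra.smul_single, nsmul_eq_mul]
    congr 1
    apply Subtype.ext
    simp [← Nat.card_eq_fintype_card, Nat.card_pos.ne']
  obtain ⟨r, hr⟩ := D.decomp (redA M G E) (hE.map _)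
  refine ⟨fun i => (r i : ℤ), fun χ => ?_⟩
  have h := hr (mult χ) (isIdemFun_mult χ)
  have h2 : ((mult χ (redA M G E) : ℤ) : ℂ) =
      classInner (fun k => (lam k : ℂ)) (fun k => (χ : G → ℂ) (j k)) := by
    rw [mult_spec χ hE rfl]
    simp only [E, classInner]
    have e : chR (χ : G → ℂ) (∑ k, MonoidAlgebra.single (j k) (c k)) =
        ∑ k, (c k : ℂ) * (χ : G → ℂ) (j k) := by
      have : ∀ s : Finset K, chR (χ : G → ℂ) (∑ k ∈ s, MonoidAlgebra.single (j k) (c k)) =
          ∑ k ∈ s, (c k : ℂ) * (χ : G → ℂ) (j k) := fun s => by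
        induction s using Finset.induction_on with
        | empty => simp [chR_zero]
        | @insert a t ha ih => rw [Finset.sum_insert ha, Finset.sum_insert ha, chR_add, chR_single, ih]
      exact this _
    rw [e, Finset.mul_sum, ← Equiv.sum_comp (Equiv.inv K)]
    refine Finset.sum_congr rfl fun k _ => ?_
    simp only [c, Equiv.inv_apply, inv_inv, map_inv]
    rw [IsIrrCharacter.apply_inv χ.2]
    ring
  rw [h] at h2
  beta_reduce
  rw [← h2]
  simp

/-- A generalized character of a `p'`-subgroup gives a projective column. -/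
theorem inProj_generalized (hM : IsPModular p M) {K : Type u} [Group K] [Fintype K]
    [Group.IsNilpotent K] (hK : ¬ p ∣ Nat.card K) (j : K →* G) {θ : K → ℂ}
    (hθ : Cfsg.IsGeneralizedCharacter K θ) :
    InProj D (fun χ => classInner θ (fun k => (χ : G → ℂ) (j k))) := by
  have hirr : ∀ φ : IrrCharacter K,
      InProj D (fun χ => classInner (φ : K → ℂ) (fun k => (χ : G → ℂ) (j k))) := fun φ => by
    obtain ⟨L, lam, hL⟩ := CfsgLib.Monomial.exists_linear_indFun (φ : K → ℂ) φ.2
    have h := inProj_linear D hM (K := L)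
      (fun h => hK (h.trans (Subgroup.card_subgroup_dvd_card L))) (j.comp L.subtype) lam
    convert h using 1
    funext χ
    rw [hL, classInner_indFun]
    · rfl
    · intro a b
      show (χ : G → ℂ) (j (b * a * b⁻¹)) = (χ : G → ℂ) (j a)
      rw [map_mul, map_mul, map_inv]
      exact IsIrrCharacter.isClassFunction χ.2 _ _
  have hch : ∀ f : K → ℂ, Cfsg.IsCharacter K f →
      InProj D (fun χ => classInner f (fun k => (χ : G → ℂ) (j k))) := fun f hf => by
    obtain ⟨m, rfl⟩ := IsCharacter.exists_nat_combination hf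
    have h := InProj.sum D Finset.univ
      (fun φ : IrrCharacter K => fun χ : IrrCharacter G =>
        ((m φ : ℤ) : ℂ) * classInner (φ : K → ℂ) (fun k => (χ : G → ℂ) (j k)))
      (fun φ _ => (hirr φ).zmul D (m φ))
    convert h using 1
    funext χ
    rw [Finset.sum_apply, classInner_sum_left]
    exact Finset.sum_congr rfl fun φ _ => by rw [classInner_smul_left, Int.cast_natCast]
  obtain ⟨a, b, ha, hb, rfl⟩ := hθ
  have h := (hch a ha).add D ((hch b hb).zmul D (-1))
  convert h using 1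
  funext χ
  rw [classInner_sub_left]
  simp [sub_eq_add_neg]

/-- **Brauer induction**: regular parts of generalized characters are projective. -/
theorem inProj_tilde (hM : IsPModular p M) {θ : G → ℂ} (hθ : Cfsg.IsGeneralizedCharacter G θ) :
    InProj D (fun χ => classInner (CfsgLib.BlockReg.tilde p θ) (χ : G → ℂ)) := by
  have hp : p.Prime := Fact.out
  have hc : Cfsg.IsClassFunction G (CfsgLib.BlockReg.tilde p θ) := fun g h => by
    simp only [CfsgLib.BlockReg.tilde,
      show orderOf (h * g * h⁻¹) = orderOf g from MulEquiv.orderOf_eq (MulAut.conj h) g,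
      IsGeneralizedCharacter.isClassFunction hθ g h]
  obtain ⟨l, hl, heq⟩ := exists_eq_comb_res _ hc
  rw [heq]
  clear heq
  induction l with
  | nil =>
    convert InProj.zero D using 1
    funext χ
    simp [classInner_zero_left]
  | cons t l ih =>
    have ih' := ih fun s hs => hl s (List.mem_cons_of_mem _ hs)
    obtain ⟨q, hq, hel, hμ⟩ := hl t List.mem_cons_self
    have key : InProj D (fun χ =>
        classInner (fun e : t.1 => t.2.1 e * CfsgLib.BlockReg.tilde p θ e)
          (fun e : t.1 => (χ : G → ℂ) e)) := by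
      haveI := CfsgLib.Char.isNilpotent_of_isElementary hq hel
      set E := t.1
      set K := Cfsg.pPrimeCore p E with hKdef
      haveI hKn : K.Normal := CfsgLib.Solvable.pPrimeCore_normal p E
      have hKco : (Nat.card K).Coprime p := CfsgLib.Solvable.pPrimeCore_card_coprime p E
      obtain ⟨b, hb⟩ : ∃ b, K.index = p ^ b := by
        refine ⟨_, Nat.eq_prime_pow_of_unique_prime_dvd Subgroup.index_ne_zero_of_finite
          fun {r} hr hrd => ?_⟩
        by_contra hrp
        haveI : Fact r.Prime := ⟨hr⟩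
        obtain ⟨S⟩ := (inferInstance : Nonempty (Sylow r E))
        obtain ⟨s, hs⟩ := IsPGroup.iff_card.1 S.2
        have hSK : (S : Subgroup E) ≤ K :=
          CfsgLib.Solvable.le_pPrimeCore inferInstance (by
            rw [hs]; exact Nat.Coprime.pow_left _ ((Nat.coprime_primes hr hp).2 hrp))
        exact S.not_dvd_index (hrd.trans (Subgroup.index_dvd_of_le hSK))
      have hreg : ∀ e : E, ¬ p ∣ orderOf e ↔ e ∈ K := fun e =>
        ⟨CfsgLib.Blocks.mem_of_regular_of_index K hp hb e, fun he hd => by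
          have h1 : orderOf (⟨e, he⟩ : K) ∣ Nat.card K := orderOf_dvd_natCard _
          rw [Subgroup.orderOf_mk] at h1
          exact (hp.coprime_iff_not_dvd.1 hKco.symm) (hd.trans h1)⟩
      have hμK : Cfsg.IsGeneralizedCharacter K (fun k : K => t.2.1 (k : E) * θ ((k : E) : G)) :=
        IsGeneralizedCharacter.mul (IsGeneralizedCharacter.restrict (IsCharacter.isGeneralizedCharacter hμ) K)
          (IsGeneralizedCharacter.comp hθ (E.subtype.comp K.subtype))
      have h := inProj_generalized D hM (K := K)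
        (fun h => (hp.coprime_iff_not_dvd.1 hKco.symm) h) (E.subtype.comp K.subtype) hμK
      set a := (Nat.card G).factorization p
      have hba : b ≤ a := by
        refine (hp.pow_dvd_iff_le_factorization Nat.card_pos.ne').1 ?_
        rw [← hb]
        exact (Subgroup.index_dvd_card K).trans (Subgroup.card_subgroup_dvd_card E)
      convert h.zmul D ((p ^ (a - b) : ℕ) : ℤ) using 1
      funext χ
      simp only [classInner, Int.cast_natCast]
      have hcard : (Nat.card E : ℂ) = (Nat.card K : ℂ) * ((p ^ b : ℕ) : ℂ) := by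
        rw [← hb, ← Nat.cast_mul, Subgroup.card_mul_index]
      have hsum : ∑ e : E, t.2.1 e * CfsgLib.BlockReg.tilde p θ e * conj ((χ : G → ℂ) e) =
          ((p ^ a : ℕ) : ℂ) *
            ∑ k : K, t.2.1 (k : E) * θ ((k : E) : G) * conj ((χ : G → ℂ) ((k : E) : G)) := by
        rw [Finset.mul_sum, ← Finset.sum_subtype (Finset.univ.filter (· ∈ K)) (fun e => by simp)
          (fun e : E => ((p ^ a : ℕ) : ℂ) * (t.2.1 e * θ e * conj ((χ : G → ℂ) e))),
          Finset.sum_filter]
        refine Finset.sum_congr rfl fun e _ => ?_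
        unfold CfsgLib.BlockReg.tilde
        rw [Subgroup.orderOf_coe]
        by_cases he : e ∈ K
        · rw [if_pos he, if_neg ((hreg e).2 he)]
          ring
        · rw [if_neg he, if_pos (not_not.1 fun h => he ((hreg e).1 h))]
          ring
      rw [hsum, hcard, show (p ^ a : ℕ) = p ^ (a - b) * p ^ b by
        rw [← pow_add, Nat.sub_add_cancel hba]]
      have h0 : ((p ^ b : ℕ) : ℂ) ≠ 0 := by exact_mod_cast pow_ne_zero _ hp.ne_zero
      have h1 : (Nat.card K : ℂ) ≠ 0 := by exact_mod_cast Nat.card_pos.ne'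
      simp only [Nat.cast_mul, MonoidHom.comp_apply, Subgroup.coe_subtype]
      field_simp
    convert (key.zmul D t.2.2).add D ih' using 1
    funext χ
    simp only [List.map_cons, List.sum_cons, Pi.add_apply, classInner_add_left,
      classInner_smul_left]
    rw [classInner_indFun t.1 _ _ (IsIrrCharacter.isClassFunction χ.2)]

theorem charP_monoidAlgebra (hM : IsPModular p M) :
    CharP (MonoidAlgebra (ResField M) G) p := by
  haveI : CharP (ResField M) p := charP_resField hM.1 (natCast_mem_of_isPModular hM)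
  refine charP_of_injective_ringHom
    (f := algebraMap (ResField M) (MonoidAlgebra (ResField M) G)) ?_ p
  exact FaithfulSMul.algebraMap_injective _ _

/-- Traces of simple modules are reductions of combinations of characters. -/
theorem exists_trace_comb (hM : IsPModular p M) (i : Fin D.n) :
    ∃ c : IrrCharacter G → locRing M, ∀ a : MonoidAlgebra (ResField M) G,
      D.tr i a = ∑ χ : IrrCharacter G, red M (c χ) * ∑ g : G, a.coeff g * red M (valR M χ g) := by
  haveI := charP_monoidAlgebra (G := G) hM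
  set f : G → ResField M := fun g => D.tr i (MonoidAlgebra.single g 1) with hf
  have hclass : ∀ g h : G, IsConj g h → f g = f h := by
    intro g h hgh
    obtain ⟨x, rfl⟩ := isConj_iff.1 hgh
    rw [hf]
    show _ = D.tr i (MonoidAlgebra.single (x * g * x⁻¹) 1)
    have e : MonoidAlgebra.single (x * g * x⁻¹) (1 : ResField M) =
        MonoidAlgebra.single x 1 * MonoidAlgebra.single (g * x⁻¹) 1 := by
      rw [MonoidAlgebra.single_mul_single, one_mul, mul_assoc]
    rw [e, D.tr_comm, MonoidAlgebra.single_mul_single, one_mul, inv_mul_cancel_right]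
  obtain ⟨s, hs⟩ := (red_surjective (M := M)).hasRightInverse
  obtain ⟨c, hc, hcx⟩ := CfsgLib.BlockReg.exists_combination hM (fun g => ((s (f g) : locRing M) : ℂ))
    (fun g h hgh => by rw [hclass g h hgh]) (fun g => (s (f g)).2)
  refine ⟨fun χ => ⟨c χ, hc χ⟩, ?_⟩
  have hpt : ∀ g : G, f g = ∑ χ : IrrCharacter G, red M ⟨c χ, hc χ⟩ * red M (valR M χ g) := by
    intro g
    obtain ⟨k, j, hk, hg, hreg, -⟩ := CfsgLib.BlockReg.exists_regular_power hM.1 g
    have h1 : red M (s (f (g ^ k))) =
        ∑ χ : IrrCharacter G, red M ⟨c χ, hc χ⟩ * red M (valR M χ (g ^ k)) := by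
      simp only [← map_mul, ← map_sum]
      congr 1
      apply Subtype.ext
      rw [AddSubmonoidClass.coe_finsetSum]
      have := hcx (g ^ k) hreg
      rw [finsum_eq_sum_of_fintype] at this
      rw [← this]
      exact Finset.sum_congr rfl fun χ _ => rfl
    rw [hs] at h1
    have h2 : f g = f (g ^ k) := by
      set h := g ^ (k - 1) with hh
      have hgk : g ^ k = g * h := by rw [hh, ← pow_succ']; congr 1; omega
      set a : MonoidAlgebra (ResField M) G := MonoidAlgebra.single g 1
      set b : MonoidAlgebra (ResField M) G := MonoidAlgebra.single h 1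
      haveI : ExpChar (MonoidAlgebra (ResField M) G) p := ExpChar.prime hM.1
      have hnil : IsNilpotent (b - 1) := ⟨p ^ j, by
        rw [sub_pow_expChar_pow_of_commute p j (Commute.one_right b), one_pow, MonoidAlgebra.single_pow,
          one_pow, hh, ← pow_mul, hg, MonoidAlgebra.one_def, sub_self]⟩
      have hab : Commute a b := by
        show _ * _ = _ * _
        simp only [a, b, MonoidAlgebra.single_mul_single, hh]
        rw [← pow_succ', ← pow_succ]
      have hn : IsNilpotent (a * (b - 1)) :=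
        (hab.sub_right (Commute.one_right a)).isNilpotent_mul_left hnil
      have h3 := D.tr_nil i _ hn
      rw [mul_sub, mul_one, map_sub, sub_eq_zero] at h3
      rw [hf]
      show D.tr i a = D.tr i (MonoidAlgebra.single (g ^ k) 1)
      rw [← h3, hgk]
      simp only [a, b, MonoidAlgebra.single_mul_single, one_mul]
    rw [h2, h1]
    refine Finset.sum_congr rfl fun χ _ => ?_
    congr 1
    have h4 := CfsgLib.BlockReg.char_sub_mem_radical hM χ g hk hg
    obtain ⟨n, hn⟩ := h4
    obtain ⟨r, hr⟩ := Ideal.mem_span_singleton.1 hn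
    symm
    rw [← memLocalIdeal_sub_iff]
    have h5 := congrArg Subtype.val hr
    simp only [SubmonoidClass.coe_pow, AddSubgroupClass.coe_sub, MulMemClass.coe_mul] at h5
    set d : CfsgLib.BlockReg.localSubring hM :=
      ⟨(χ : G → ℂ) g - (χ : G → ℂ) (g ^ k), CfsgLib.BlockReg.memRing_sub hM
        (CfsgLib.BlockReg.memRing_char hM χ g) (CfsgLib.BlockReg.memRing_char hM χ (g ^ k))⟩
    have h6 : d ∈ CfsgLib.BlockReg.localIdeal hM := by
      refine (CfsgLib.BlockReg.isPrime_localIdeal hM).mem_of_pow_mem n ?_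
      show MemLocalIdeal M (((d ^ n : CfsgLib.BlockReg.localSubring hM)) : ℂ)
      rw [SubmonoidClass.coe_pow]
      show MemLocalIdeal M (((χ : G → ℂ) g - (χ : G → ℂ) (g ^ k)) ^ n)
      rw [h5]
      refine CfsgLib.BlockReg.memIdeal_mul_right hM ?_ r.2
      rw [SubringClass.coe_natCast]
      exact (CfsgLib.BlockReg.memIdeal_natCast_iff hM p).2 dvd_rfl
    exact h6
  intro a
  induction a using MonoidAlgebra.induction_linear with
  | zero => simp
  | add x y hx hy =>
    rw [map_add, hx, hy, ← Finset.sum_add_distrib]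
    refine Finset.sum_congr rfl fun χ _ => ?_
    simp [add_mul, Finset.sum_add_distrib, mul_add]
  | single g r =>
    rw [show MonoidAlgebra.single g r = r • MonoidAlgebra.single g (1 : ResField M) by simp,
      map_smul, smul_eq_mul]
    show r * f g = _
    rw [hpt g, Finset.mul_sum]
    refine Finset.sum_congr rfl fun χ _ => ?_
    rw [Finset.sum_eq_single g]
    · simp; ring
    · intro x _ hx; simp [Finsupp.single_eq_of_ne hx]
    · simp

/-- The matrix of multiplicities is injective modulo `p`. -/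
theorem dvd_of_dvd_comb (hM : IsPModular p M) (y : Fin D.n → ℤ)
    (hy : ∀ χ : IrrCharacter G, (p : ℤ) ∣ ∑ i, y i * mult χ (D.eps i)) (j : Fin D.n) :
    (p : ℤ) ∣ y j := by
  haveI : CharP (ResField M) p := charP_resField hM.1 (natCast_mem_of_isPModular hM)
  obtain ⟨c, hc⟩ := exists_trace_comb D hM j
  have h : ∀ i, D.tr j (D.eps i) =
      ∑ χ : IrrCharacter G, red M (c χ) * (mult χ (D.eps i) : ResField M) := fun i => by
    rw [hc]
    exact Finset.sum_congr rfl fun χ _ => by rw [cast_mult χ (D.eps_idem i)]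
  have h2 : ∑ i, (y i : ResField M) * D.tr j (D.eps i) = 0 := by
    simp only [h, Finset.mul_sum]
    rw [Finset.sum_comm]
    refine Finset.sum_eq_zero fun χ _ => ?_
    have h3 : ((∑ i, y i * mult χ (D.eps i) : ℤ) : ResField M) = 0 :=
      (CharP.intCast_eq_zero_iff _ p _).2 (hy χ)
    push_cast at h3
    calc ∑ i, (y i : ResField M) * (red M (c χ) * (mult χ (D.eps i) : ResField M))
        = red M (c χ) * ∑ i, (y i : ResField M) * (mult χ (D.eps i) : ResField M) := by
          rw [Finset.mul_sum]; exact Finset.sum_congr rfl fun i _ => by ring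
      _ = 0 := by rw [h3, mul_zero]
  simp only [D.tr_eps, mul_ite, mul_one, mul_zero, Finset.sum_ite_eq, Finset.mem_univ,
    if_true] at h2
  exact (CharP.intCast_eq_zero_iff _ p _).1 h2

theorem pow_dvd_of_dvd_comb (hM : IsPModular p M) (t : ℕ) :
    ∀ y : Fin D.n → ℤ, (∀ χ : IrrCharacter G, (p : ℤ) ^ t ∣ ∑ i, y i * mult χ (D.eps i)) →
      ∀ j, (p : ℤ) ^ t ∣ y j := by
  induction t with
  | zero => intro y _ j; simp
  | succ t ih =>
    intro y hy j
    have h1 : ∀ i, (p : ℤ) ∣ y i := dvd_of_dvd_comb D hM y fun χ =>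
      (dvd_pow_self _ (Nat.succ_ne_zero t)).trans (hy χ)
    choose z hz using h1
    have h2 := ih z (fun χ => by
      have := hy χ
      rw [show ∑ i, y i * mult χ (D.eps i) = (p : ℤ) * ∑ i, z i * mult χ (D.eps i) by
        rw [Finset.mul_sum]; exact Finset.sum_congr rfl fun i _ => by rw [hz i]; ring,
        pow_succ', mul_dvd_mul_iff_left (by exact_mod_cast (Fact.out : p.Prime).ne_zero)] at this
      exact this) j
    rw [hz j, pow_succ']
    exact mul_dvd_mul_left _ h2

/-- The matrix of multiplicities is injective. -/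
theorem eq_zero_of_comb_eq_zero (hM : IsPModular p M) (y : Fin D.n → ℤ)
    (hy : ∀ χ : IrrCharacter G, ∑ i, y i * mult χ (D.eps i) = 0) (j : Fin D.n) : y j = 0 := by
  by_contra hne
  have hp := (Fact.out : p.Prime).two_le
  obtain ⟨t, ht⟩ : ∃ t : ℕ, (y j).natAbs < p ^ t :=
    ⟨_, Nat.lt_pow_self (by omega)⟩
  have h := pow_dvd_of_dvd_comb D hM t y (fun χ => by rw [hy χ]; exact dvd_zero _) j
  rw [← Nat.cast_pow, Int.natCast_dvd] at h
  exact absurd (Nat.le_of_dvd (by omega) h) (not_le.2 ht)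

omit [Fact p.Prime] in
theorem mult_eq_zero_of_mul_eq_zero {B : Set (IrrCharacter G)} (hB : IsPBlock M B)
    {ε : MonoidAlgebra (ResField M) G} (hε : IsIdempotentElem ε)
    (he : (blockIdem hB : MonoidAlgebra (ResField M) G) * ε = 0)
    {χ : IrrCharacter G} (hχ : χ ∈ B) : mult χ ε = 0 := by
  obtain ⟨E, hE, hEr⟩ := exists_idem_lift hε
  set W := (blockIdemR hB : MonoidAlgebra (locRing M) G) with hW
  have hc : ∀ x, x * W = W * x := Subalgebra.mem_center_iff.1 (blockIdemR hB).2
  have hWi : IsIdempotentElem W := congrArg Subtype.val (isIdempotentElem_blockIdemR hB).eq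
  have hEW : IsIdempotentElem (E * W) := hE.mul_of_commute (hc E) hWi
  have hr : redA M G (E * W) = redA M G 0 := by
    rw [hc, map_mul, hEr, map_zero]
    exact he
  have h1 := chR_eq_of_redA_eq (IsIrrCharacter.isClassFunction χ.2) hEW IsIdempotentElem.zero hr
  rw [chR_mul_blockIdemR hB, blockInd, if_pos hχ, one_mul, chR_zero, ← mult_spec χ hE hEr] at h1
  exact_mod_cast h1

omit D in
/-- **Degrees of a block**: the squares of the degrees of a block add up to at least
`l p^(a + m) u^2`. -/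
theorem degree_sq (hM : IsPModular p M) {B : Set (IrrCharacter G)} (hB : IsPBlock M B) (g : ℕ)
    (hg1 : ∀ χ ∈ B, g ∣ charDegree (χ : G → ℂ))
    (hg2 : ∀ g' : ℕ, (∀ χ ∈ B, g' ∣ charDegree (χ : G → ℂ)) → g' ∣ g) :
    g.factorization p = CfsgLib.BlockReg.minExp p B ∧ ∃ v : ℕ, 0 < v ∧ ¬ p ∣ v ∧
      Cfsg.blockRank p B ≤ v ∧ ∑ᶠ χ ∈ B, charDegree (χ : G → ℂ) ^ 2 =
        p ^ ((Nat.card G).factorization p + CfsgLib.BlockReg.minExp p B) *
          (g / p ^ CfsgLib.BlockReg.minExp p B) ^ 2 * v := by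
  have hp : p.Prime := Fact.out
  set a := (Nat.card G).factorization p with ha
  set m := CfsgLib.BlockReg.minExp p B with hm
  obtain ⟨χ₀, hχ₀, hχ₀m⟩ := CfsgLib.BlockReg.exists_minExp (p := p) (IsPBlock.nonempty hB)
  have hg0 : g ≠ 0 := fun h => by
    have := hg1 χ₀ hχ₀
    rw [h, zero_dvd_iff] at this
    exact (CfsgLib.BlockReg.deg_pos χ₀).ne' this
  have hpm : p ^ m ∣ g := hg2 _ fun χ hχ =>
    (hp.pow_dvd_iff_le_factorization (CfsgLib.BlockReg.deg_pos χ).ne').2
      (CfsgLib.BlockReg.minExp_le hχ)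
  have hfac : g.factorization p = m := le_antisymm
    (((Nat.factorization_le_iff_dvd hg0 (CfsgLib.BlockReg.deg_pos χ₀).ne').2 (hg1 χ₀ hχ₀) p).trans hχ₀m.le)
    ((hp.pow_dvd_iff_le_factorization hg0).1 hpm)
  refine ⟨hfac, ?_⟩
  set u := g / p ^ m with hu
  have hgu : g = p ^ m * u := (Nat.mul_div_cancel' hpm).symm
  have hpu : ¬ p ∣ u := by
    rw [hu, ← hfac]; exact Nat.not_dvd_ordCompl hp hg0
  have hu0 : 0 < u := Nat.pos_of_ne_zero fun h => hg0 (by rw [hgu, h, mul_zero])
  have hupc : ∀ k, (p ^ k).Coprime u := fun k =>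
    Nat.Coprime.pow_left _ (hp.coprime_iff_not_dvd.2 hpu)
  haveI := isAlgClosed_resField (M := M)
  haveI : FiniteDimensional (ResField M) (MonoidAlgebra (ResField M) G) :=
    Module.Finite.of_basis (MonoidAlgebra.basis G (ResField M))
  obtain ⟨D⟩ := exists_idemData (ResField M) (MonoidAlgebra (ResField M) G)
  set e := (blockIdem hB : MonoidAlgebra (ResField M) G) with he
  have hei : IsIdempotentElem e := congrArg Subtype.val (isIdempotentElem_blockIdem hB).eq
  have hec : ∀ x, x * e = e * x := Subalgebra.mem_center_iff.1 (blockIdem hB).2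
  set IB := Finset.univ.filter fun i => e * D.eps i = D.eps i with hIB
  have hout : ∀ i ∈ IB, ∀ χ : IrrCharacter G, χ ∉ B → mult χ (D.eps i) = 0 := fun i hi χ hχ =>
    mult_eq_zero_of_not_mem hB (D.eps_idem i) (Finset.mem_filter.1 hi).2 hχ
  have hin : ∀ i, i ∉ IB → ∀ χ : IrrCharacter G, χ ∈ B → mult χ (D.eps i) = 0 := fun i hi χ hχ => by
    refine mult_eq_zero_of_mul_eq_zero hB (D.eps_idem i) ?_ hχ
    rcases D.central e hei hec i with h | h
    · exact absurd (Finset.mem_filter.2 ⟨Finset.mem_univ i, h.1⟩) hi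
    · exact h.1
  -- degrees
  have hdeg : ∀ χ : IrrCharacter G,
      ((charDegree (χ : G → ℂ) : ℕ) : ℤ) = ∑ i, (D.deg i : ℤ) * mult χ (D.eps i) := fun χ => by
    rw [← D.decomp_one (mult χ) (isIdemFun_mult χ)]
    have : ((charDegree (χ : G → ℂ) : ℕ) : ℂ) = ((mult (M := M) χ 1 : ℤ) : ℂ) := by
      rw [mult_one, CfsgLib.BlockReg.deg_cast]
    exact_mod_cast this
  let y : Fin D.n → ℤ := fun i => if i ∈ IB then (D.deg i : ℤ) else 0
  have hyB : ∀ χ : IrrCharacter G, ∑ i, y i * mult χ (D.eps i) =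
      if χ ∈ B then ((charDegree (χ : G → ℂ) : ℕ) : ℤ) else 0 := fun χ => by
    by_cases hχ : χ ∈ B
    · rw [if_pos hχ, hdeg]
      refine Finset.sum_congr rfl fun i _ => ?_
      by_cases hi : i ∈ IB
      · simp [y, hi]
      · simp [hin i hi χ hχ]
    · rw [if_neg hχ]
      refine Finset.sum_eq_zero fun i _ => ?_
      by_cases hi : i ∈ IB
      · simp [hout i hi χ hχ]
      · simp [y, hi]
  have hpy : ∀ i, (p : ℤ) ^ m ∣ y i := pow_dvd_of_dvd_comb D hM m y fun χ => by
    rw [hyB]
    split_ifs with hχ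
    · exact_mod_cast (hpm.trans (hg1 χ hχ))
    · exact dvd_zero _
  -- the divided regular character
  let c : IrrCharacter G → ℤ := fun χ => if χ ∈ B then ((charDegree (χ : G → ℂ) / g : ℕ) : ℤ) else 0
  let θ : G → ℂ := fun x => ∑ χ : IrrCharacter G, (c χ : ℂ) * (χ : G → ℂ) x
  have hθg : Cfsg.IsGeneralizedCharacter G θ :=
    CfsgLib.BlockReg.isGeneralizedCharacter_int_combination c
  have hgC : (g : ℂ) ≠ 0 := Nat.cast_ne_zero.2 hg0
  have hcC : ∀ χ ∈ B, (c χ : ℂ) = (χ : G → ℂ) 1 / (g : ℂ) := fun χ hχ => by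
    simp only [c, if_pos hχ]
    rw [Int.cast_natCast, Nat.cast_div (hg1 χ hχ) hgC, CfsgLib.BlockReg.deg_cast]
  have hsing : ∀ x : G, p ∣ orderOf x → θ x = 0 := fun x hx => by
    have h := CfsgLib.BlockReg.block_orth_swap hM hB 1 x (by simp [hp.ne_one]) hx
    rw [finsum_mem_eq_toFinset_sum] at h
    have e1 : θ x = (g : ℂ)⁻¹ * ∑ χ ∈ B.toFinset, (χ : G → ℂ) x * conj ((χ : G → ℂ) 1) := by
      rw [Finset.mul_sum]
      simp only [θ]
      rw [← Finset.sum_subset (Finset.subset_univ B.toFinset) fun χ _ hχ => by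
        simp [c, show χ ∉ B from fun h => hχ (Set.mem_toFinset.2 h)]]
      refine Finset.sum_congr rfl fun χ hχ => ?_
      rw [hcC χ (Set.mem_toFinset.1 hχ), ← IsIrrCharacter.apply_inv χ.2, inv_one]
      ring
    rw [e1, h, mul_zero]
  have htil : CfsgLib.BlockReg.tilde p θ = ((p ^ a : ℕ) : ℂ) • θ := by
    funext x
    by_cases hx : p ∣ orderOf x
    · simp [CfsgLib.BlockReg.tilde, hx, hsing x hx]
    · simp [CfsgLib.BlockReg.tilde, hx, ha]
  obtain ⟨z, hz⟩ := inProj_tilde D hM hθg
  have hzc : ∀ χ : IrrCharacter G, ∑ i, z i * mult χ (D.eps i) = ((p ^ a : ℕ) : ℤ) * c χ := by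
    intro χ
    have h1 := hz χ
    beta_reduce at h1
    have h2 : θ = ∑ ψ : IrrCharacter G, (c ψ : ℂ) • (ψ : G → ℂ) := by
      funext x; simp [θ, Finset.sum_apply]
    rw [htil, classInner_smul_left, h2, classInner_sum_smul_irr] at h1
    exact_mod_cast h1.symm
  have hzn : ∀ i, (g : ℤ) * z i = ((p ^ a : ℕ) : ℤ) * y i := by
    intro i
    rw [← sub_eq_zero]
    refine eq_zero_of_comb_eq_zero D hM (fun i => (g : ℤ) * z i - ((p ^ a : ℕ) : ℤ) * y i) ?_ i
    intro χ
    calc ∑ i, ((g : ℤ) * z i - ((p ^ a : ℕ) : ℤ) * y i) * mult χ (D.eps i)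
        = (g : ℤ) * ∑ i, z i * mult χ (D.eps i) -
            ((p ^ a : ℕ) : ℤ) * ∑ i, y i * mult χ (D.eps i) := by
          rw [Finset.mul_sum, Finset.mul_sum, ← Finset.sum_sub_distrib]
          exact Finset.sum_congr rfl fun i _ => by ring
      _ = 0 := by
          rw [hzc, hyB]
          by_cases hχ : χ ∈ B
          · simp only [c, if_pos hχ]
            rw [show ((charDegree (χ : G → ℂ) : ℕ) : ℤ) =
              (g : ℤ) * ((charDegree (χ : G → ℂ) / g : ℕ) : ℤ) by
                rw [← Nat.cast_mul, Nat.mul_div_cancel' (hg1 χ hχ)]]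
            ring
          · simp [c, hχ]
  have hdi : ∀ i ∈ IB, g ∣ D.deg i := fun i hi => by
    have h1 := hpy i
    have h2 := hzn i
    simp only [y, if_pos hi] at h1 h2
    have h1' : p ^ m ∣ D.deg i := by exact_mod_cast h1
    have h2' : g ∣ p ^ a * D.deg i := by
      have : (g : ℤ) ∣ ((p ^ a * D.deg i : ℕ) : ℤ) := ⟨z i, by rw [h2]; push_cast; ring⟩
      exact_mod_cast this
    have h3 : u ∣ D.deg i :=
      (hupc a).symm.dvd_of_dvd_mul_left ((Dvd.intro_left _ hgu.symm).trans h2')
    rw [hgu]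
    exact Nat.Coprime.mul_dvd_of_dvd_of_dvd (hupc m) h1' h3
  -- projective degrees
  let P : Fin D.n → ℤ := fun i =>
    ∑ χ : IrrCharacter G, mult χ (D.eps i) * ((charDegree (χ : G → ℂ) : ℕ) : ℤ)
  have hP : ∀ i ∈ IB, ((p ^ a * u : ℕ) : ℤ) ≤ P i := fun i hi => by
    have hpa : ((p ^ a : ℕ) : ℤ) ∣ P i := by
      refine (CfsgLib.BlockReg.memIdeal_intCast_div hM (P i) a).1.2 ?_
      obtain ⟨E, hE, hEr⟩ := exists_idem_lift (D.eps_idem i)
      have h1 : ((P i : ℤ) : ℂ) = (Nat.card G : ℂ) * (E.coeff 1 : ℂ) := by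
        rw [← sum_mult_mul_one hE hEr]
        simp only [P, Int.cast_sum, Int.cast_mul, Int.cast_natCast, CfsgLib.BlockReg.deg_cast]
      rw [h1, mul_comm, mul_div_assoc]
      exact CfsgLib.BlockReg.memRing_mul hM (E.coeff 1).2
        (CfsgLib.BlockReg.natCast_div_memRing hM (pow_ne_zero _ hp.ne_zero)
          (Or.inr (by rw [hp.factorization_pow, Finsupp.single_eq_same, ha])))
    have hug : (u : ℤ) ∣ P i := Finset.dvd_sum fun χ _ => by
      by_cases hχ : χ ∈ B
      · exact (Int.natCast_dvd_natCast.2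
          ((Dvd.intro_left _ hgu.symm).trans (hg1 χ hχ))).mul_left _
      · simp [hout i hi χ hχ]
    have hd : ((p ^ a * u : ℕ) : ℤ) ∣ P i := by
      rw [Nat.cast_mul]
      exact (Nat.Coprime.isCoprime (hupc a)).mul_dvd hpa hug
    refine Int.le_of_dvd ?_ hd
    obtain ⟨χ, hχ⟩ : ∃ χ : IrrCharacter G, mult χ (D.eps i) ≠ 0 := by
      by_contra hne
      push Not at hne
      have h := eq_zero_of_comb_eq_zero D hM (Pi.single i 1) (fun χ => by
        rw [Finset.sum_eq_single i] <;> simp +contextual [hne χ]) i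
      simp at h
    refine Finset.sum_pos' (fun ψ _ => mul_nonneg (mult_nonneg ψ _) (Int.natCast_nonneg _))
      ⟨χ, Finset.mem_univ _, mul_pos (lt_of_le_of_ne (mult_nonneg χ _) (Ne.symm hχ)) ?_⟩
    exact_mod_cast CfsgLib.BlockReg.deg_pos χ
  -- the rank
  have hrank : Cfsg.blockRank p B ≤ IB.card := by
    let Ψ : Fin D.n → G → ℂ := fun i x =>
      ∑ χ : IrrCharacter G, (mult χ (D.eps i) : ℂ) * (χ : G → ℂ) x
    refine le_trans (Submodule.finrank_mono (Submodule.span_le.2 ?_))
      ((finrank_span_finset_le_card (R := ℂ) (IB.image Ψ)).trans Finset.card_image_le)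
    rintro _ ⟨χ, hχ, rfl⟩
    obtain ⟨z, hz⟩ := inProj_tilde D hM (IsIrrCharacter.isGeneralizedCharacter χ.2)
    have hz0 : ∀ i, i ∉ IB → z i = 0 := fun i hi => by
      have h := eq_zero_of_comb_eq_zero D hM (fun i => if i ∈ IB then 0 else z i) (fun ψ => by
        by_cases hψ : ψ ∈ B
        · refine Finset.sum_eq_zero fun i _ => ?_
          by_cases hi : i ∈ IB
          · simp [hi]
          · simp [hin i hi ψ hψ]
        · have h1 := hz ψ
          simp only [CfsgLib.BlockReg.classInner_tilde_eq_zero hM hB hχ hψ] at h1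
          have h2 : ((∑ i, (if i ∈ IB then 0 else z i) * mult ψ (D.eps i) : ℤ) : ℂ) = 0 := by
            rw [h1, Int.cast_sum]
            refine Finset.sum_congr rfl fun i _ => ?_
            by_cases hi : i ∈ IB
            · simp [hi, hout i hi ψ hψ]
            · simp [hi]
          exact_mod_cast h2) i
      simpa [hi] using h
    have hexp : CfsgLib.BlockReg.tilde p (χ : G → ℂ) = ∑ i ∈ IB, (z i : ℂ) • Ψ i := by
      have hcl : Cfsg.IsClassFunction G (CfsgLib.BlockReg.tilde p (χ : G → ℂ)) := fun x h =>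
        CfsgLib.BlockReg.tilde_congr p χ _ _ (isConj_iff.2 ⟨h⁻¹, by group⟩)
      conv_lhs => rw [IsClassFunction.eq_sum_classInner hcl]
      funext x
      simp only [Finset.sum_apply, Pi.smul_apply, smul_eq_mul, Ψ, Finset.mul_sum]
      rw [Finset.sum_comm]
      refine Finset.sum_congr rfl fun ψ _ => ?_
      rw [show classInner (CfsgLib.BlockReg.tilde p (χ : G → ℂ)) (ψ : G → ℂ) = _ from hz ψ, Finset.sum_mul, ← Finset.sum_subset (Finset.subset_univ IB)
        (fun i _ hi => by simp [hz0 i hi])]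
      exact Finset.sum_congr rfl fun i _ => by ring
    have hpC : ((p ^ a : ℕ) : ℂ) ≠ 0 := by exact_mod_cast pow_ne_zero a hp.ne_zero
    have hreg : Cfsg.pRegularPart p (χ : G → ℂ) =
        ((p ^ a : ℕ) : ℂ)⁻¹ • CfsgLib.BlockReg.tilde p (χ : G → ℂ) := by
      funext x
      by_cases hx : p ∣ orderOf x
      · simp [CfsgLib.BlockRank.pRegularPart_apply, Cfsg.IsPRegular, CfsgLib.BlockReg.tilde, hx]
      · simp only [CfsgLib.BlockRank.pRegularPart_apply, Cfsg.IsPRegular, CfsgLib.BlockReg.tilde,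
          hx, not_false_eq_true, if_true, if_false, Pi.smul_apply, smul_eq_mul, ← ha]
        rw [inv_mul_cancel_left₀ hpC]
    show Cfsg.pRegularPart p (χ : G → ℂ) ∈ _
    rw [hreg, hexp]
    exact Submodule.smul_mem _ _ (sum_mem fun i hi => Submodule.smul_mem _ _
      (Submodule.subset_span (Finset.mem_coe.2 (Finset.mem_image_of_mem Ψ hi))))
  -- conclusion
  set Ssq := ∑ᶠ χ ∈ B, charDegree (χ : G → ℂ) ^ 2 with hSq
  have hsum : (Ssq : ℤ) = ∑ i ∈ IB, (D.deg i : ℤ) * P i := by
    rw [hSq, finsum_mem_eq_toFinset_sum, Nat.cast_sum]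
    simp only [P, Finset.mul_sum]
    rw [Finset.sum_comm, ← Finset.sum_subset (Finset.subset_univ B.toFinset) fun χ _ hχ =>
      Finset.sum_eq_zero fun i hi => by
        rw [hout i hi χ fun h => hχ (Set.mem_toFinset.2 h)]; simp]
    refine Finset.sum_congr rfl fun χ hχ => ?_
    have h := hyB χ
    rw [if_pos (Set.mem_toFinset.1 hχ),
      ← Finset.sum_subset (Finset.subset_univ IB) (fun i _ hi => by simp [y, hi])] at h
    rw [Nat.cast_pow, sq]
    conv_lhs => arg 1; rw [← h]
    rw [Finset.sum_mul]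
    exact Finset.sum_congr rfl fun i hi => by simp only [y, if_pos hi]; ring
  have hge : Cfsg.blockRank p B * (p ^ (a + m) * u ^ 2) ≤ Ssq := by
    have h : (IB.card : ℤ) * ((p ^ (a + m) * u ^ 2 : ℕ) : ℤ) ≤ (Ssq : ℤ) := by
      rw [hsum, ← nsmul_eq_mul, ← Finset.sum_const]
      refine Finset.sum_le_sum fun i hi => ?_
      rw [show p ^ (a + m) * u ^ 2 = g * (p ^ a * u) by rw [hgu, pow_add]; ring, Nat.cast_mul]
      exact mul_le_mul (Int.ofNat_le.2 (Nat.le_of_dvd (D.deg_pos i) (hdi i hi))) (hP i hi)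
        (Int.natCast_nonneg _) (Int.natCast_nonneg _)
    exact le_trans (Nat.mul_le_mul_right _ hrank) (by exact_mod_cast h)
  have hSqfac : Ssq.factorization p = a + m := CfsgLib.BlockReg.factorization_sum_sq hM hB
  have hSq0 : Ssq ≠ 0 := by
    rw [hSq, finsum_mem_eq_toFinset_sum, Ne, Finset.sum_eq_zero_iff]
    exact fun h => (CfsgLib.BlockReg.deg_pos χ₀).ne'
      (pow_eq_zero_iff two_ne_zero |>.1 (h χ₀ (Set.mem_toFinset.2 hχ₀)))
  have hdvd : p ^ (a + m) * u ^ 2 ∣ Ssq := by
    refine Nat.Coprime.mul_dvd_of_dvd_of_dvd ((hupc (a + m)).pow_right 2) ?_ ?_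
    · rw [← hSqfac]; exact Nat.ordProj_dvd _ _
    · rw [hSq, finsum_mem_eq_toFinset_sum]
      exact Finset.dvd_sum fun χ hχ => pow_dvd_pow_of_dvd
        ((Dvd.intro_left _ hgu.symm).trans (hg1 χ (Set.mem_toFinset.1 hχ))) 2
  obtain ⟨v, hv⟩ := hdvd
  have hv0 : v ≠ 0 := fun h => hSq0 (by rw [hv, h, mul_zero])
  refine ⟨v, Nat.pos_of_ne_zero hv0, ?_, ?_, hv⟩
  · intro hd
    have h1 : p ^ (a + m + 1) ∣ Ssq := by
      rw [hv, pow_succ, mul_assoc]
      exact mul_dvd_mul_left _ (hd.mul_left _)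
    have := (hp.pow_dvd_iff_le_factorization hSq0).1 h1
    omega
  · rw [hv, mul_comm _ v] at hge
    exact Nat.le_of_mul_le_mul_right hge (mul_pos (pow_pos hp.pos _) (pow_pos hu0 2))

end CfsgLib.DegreeSq
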